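import Groth.Agent.EGA2.K31.GrHom
import Groth.Agent.CohqB.FiniteType2

/-!
# Condition (TF) and finiteness of `M~`

`A` graded, generated by its parts of degree `0` and `1`; `M` a graded module.
* `exists_homog_gen`: if `⊕_{k ≥ n} M_k` generates a finitely generated submodule, it is generated by finitely many
  homogeneous elements of degree `≥ n`; `exists_coeff`: homogeneous coefficients;
* `mem_pow_of_closure`: `A_j ⊆ I^j` if `I` contains `A_1`; `iSup_basicOpen_one`: the `D_+(f)`, `f` of degree one, cover;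
* `finite_sections`: then `Γ(D_+(f), M~)` is a finitely generated module, `f` of degree one;
* `TN_of_zero`: if moreover `A_1` is generated by finitely many elements and `M~ = 0`, then `M_k = 0` for large `k`.
-/

set_option autoImplicit false
set_option linter.unusedSectionVars false
universe u

open CategoryTheory CategoryTheory.Limits AlgebraicGeometry TopologicalSpace Opposite TopCat
open scoped HomogeneousIdeal

noncomputable section

namespace K31.GrTF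

open K31.GrSect K31.GrFracs K31.GrHom Groth.Agent.Ega1.QCohLoc

section alg

variable {A σ : Type u} [CommRing A] [SetLike σ A] [AddSubgroupClass σ A] {𝒜 : ℕ → σ} [GradedRing 𝒜]

/-- `A_j ⊆ I^j` if `A` is generated in degrees `0`, `1` and `I` contains `A_1`. -/
theorem decompose_mem_pow (hgen : Subring.closure ((𝒜 0 : Set A) ∪ (𝒜 1 : Set A)) = ⊤) (I : Ideal A)
    (hI : ∀ a ∈ 𝒜 1, a ∈ I) (x : A) : ∀ j, (DirectSum.decompose 𝒜 x j : A) ∈ I ^ j := by
  classical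
  have hx : x ∈ Subring.closure ((𝒜 0 : Set A) ∪ (𝒜 1 : Set A)) := by rw [hgen]; trivial
  induction hx using Subring.closure_induction with
  | mem x hx =>
    intro j
    rcases hx with hx | hx
    · rcases Nat.eq_zero_or_pos j with rfl | hj
      · rw [pow_zero, Ideal.one_eq_top]; exact Submodule.mem_top
      · rw [DirectSum.decompose_of_mem_ne 𝒜 hx (by omega)]; exact zero_mem _
    · by_cases hj : j = 1
      · subst hj
        rw [pow_one, DirectSum.decompose_of_mem_same 𝒜 hx]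
        exact hI _ hx
      · rw [DirectSum.decompose_of_mem_ne 𝒜 hx (by omega)]; exact zero_mem _
  | zero => intro j; rw [DirectSum.decompose_zero]; exact zero_mem _
  | one =>
    intro j
    rcases Nat.eq_zero_or_pos j with rfl | hj
    · rw [pow_zero, Ideal.one_eq_top]; exact Submodule.mem_top
    · rw [DirectSum.decompose_of_mem_ne 𝒜 (SetLike.GradedOne.one_mem) (by omega)]; exact zero_mem _
  | add x y _ _ hx hy =>
    intro j
    rw [DirectSum.decompose_add, DirectSum.add_apply]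
    exact add_mem (hx j) (hy j)
  | neg x _ hx =>
    intro j
    rw [DirectSum.decompose_neg]
    exact neg_mem (hx j)
  | mul x y _ _ hx hy =>
    intro j
    rw [← DirectSum.sum_support_decompose 𝒜 x, ← DirectSum.sum_support_decompose 𝒜 y, Finset.sum_mul_sum,
      DirectSum.decompose_sum, DFinsupp.finsetSum_apply, AddSubmonoidClass.coe_finsetSum]
    refine sum_mem fun a _ => ?_
    rw [DirectSum.decompose_sum, DFinsupp.finsetSum_apply, AddSubmonoidClass.coe_finsetSum]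
    refine sum_mem fun b _ => ?_
    by_cases hj : a + b = j
    · subst hj
      rw [DirectSum.decompose_of_mem_same 𝒜 (SetLike.mul_mem_graded (SetLike.coe_mem _) (SetLike.coe_mem _)), pow_add]
      exact Ideal.mul_mem_mul (hx a) (hy b)
    · rw [DirectSum.decompose_of_mem_ne 𝒜 (SetLike.mul_mem_graded (SetLike.coe_mem _) (SetLike.coe_mem _)) hj]
      exact zero_mem _

theorem mem_pow_of_closure (hgen : Subring.closure ((𝒜 0 : Set A) ∪ (𝒜 1 : Set A)) = ⊤) (I : Ideal A)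
    (hI : ∀ a ∈ 𝒜 1, a ∈ I) {j : ℕ} {x : A} (hx : x ∈ 𝒜 j) : x ∈ I ^ j := by
  have := decompose_mem_pow hgen I hI x j
  rwa [DirectSum.decompose_of_mem_same 𝒜 hx] at this

/-- The opens `D_+(f)`, `f` of degree one, cover. -/
theorem exists_one_notMem (hgen : Subring.closure ((𝒜 0 : Set A) ∪ (𝒜 1 : Set A)) = ⊤)
    (x : ProjectiveSpectrum 𝒜) : ∃ f ∈ 𝒜 1, f ∉ x.asHomogeneousIdeal := by
  by_contra! H
  obtain ⟨d, h, hd, hh, hhx⟩ := exists_pos_notMem 𝒜 x
  have := mem_pow_of_closure hgen x.asHomogeneousIdeal.toIdeal H hh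
  exact hhx (Ideal.pow_le_self (by omega) this)

theorem iSup_basicOpen_one (hgen : Subring.closure ((𝒜 0 : Set A) ∪ (𝒜 1 : Set A)) = ⊤) :
    ⨆ f : {f : A // f ∈ 𝒜 1}, Proj.basicOpen 𝒜 f.1 = ⊤ := by
  rw [eq_top_iff]
  intro x _
  obtain ⟨f, hf, hfx⟩ := exists_one_notMem hgen x
  exact Opens.mem_iSup.2 ⟨⟨f, hf⟩, hfx⟩

end alg

variable {A σ : Type u} [CommRing A] [SetLike σ A] [AddSubgroupClass σ A] {𝒜 : ℕ → σ} [GradedRing 𝒜]
variable {M τ : Type u} [AddCommGroup M] [Module A M] [SetLike τ M] [AddSubgroupClass τ M] {ℳ : ℕ → τ}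
variable [SetLike.GradedSMul 𝒜 ℳ] [DirectSum.Decomposition ℳ]

variable (𝒜) in
include 𝒜 in
theorem decompose_smul_of_lt (a : A) {i : ℕ} {m : M} (hm : m ∈ ℳ i) {k : ℕ} (hk : k < i) :
    (DirectSum.decompose ℳ (a • m) k : M) = 0 := by
  classical
  rw [← DirectSum.sum_support_decompose 𝒜 a, Finset.sum_smul, DirectSum.decompose_sum, DFinsupp.finsetSum_apply,
    AddSubmonoidClass.coe_finsetSum]
  refine Finset.sum_eq_zero fun j _ => ?_
  exact DirectSum.decompose_of_mem_ne ℳ (smul_mem_add 𝒜 (SetLike.coe_mem _) hm) (by omega)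

omit [DirectSum.Decomposition ℳ] [SetLike.GradedSMul 𝒜 ℳ] in
/-- Homogeneous generators. -/
theorem exists_homog_gen {n : ℕ} (h : (Submodule.span A (⋃ k ∈ Set.Ici n, (ℳ k : Set M))).FG) :
    ∃ (T : Finset M) (δ : M → ℕ), (∀ t ∈ T, t ∈ ℳ (δ t)) ∧
      ∀ k, n ≤ k → ∀ m ∈ ℳ k, m ∈ Submodule.span A (T : Set M) := by
  obtain ⟨T, hT, hspan⟩ := Submodule.fg_span_iff_fg_span_finset_subset _ |>.1 h
  have h1 : ∀ t ∈ T, ∃ k, t ∈ ℳ k := by
    intro t ht
    obtain ⟨k, hk⟩ := Set.mem_iUnion.1 (hT ht)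
    obtain ⟨-, hk⟩ := Set.mem_iUnion.1 hk
    exact ⟨k, hk⟩
  classical
  choose! δ hδ using h1
  refine ⟨T, δ, hδ, fun k hk m hm => ?_⟩
  rw [← hspan]
  exact Submodule.subset_span (Set.mem_iUnion.2 ⟨k, Set.mem_iUnion.2 ⟨hk, hm⟩⟩)

variable (𝒜) in
/-- Homogeneous coefficients. -/
theorem exists_coeff {T : Finset M} {δ : M → ℕ} (hδ : ∀ t ∈ T, t ∈ ℳ (δ t)) {k : ℕ} {m : M} (hm : m ∈ ℳ k)
    (h : m ∈ Submodule.span A (T : Set M)) :
    ∃ c : M → A, (∀ t ∈ T, δ t ≤ k → c t ∈ 𝒜 (k - δ t)) ∧ (∀ t ∈ T, ¬ δ t ≤ k → c t = 0) ∧ m = ∑ t ∈ T, c t • t := by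
  classical
  obtain ⟨c, hc⟩ := Submodule.mem_span_finset'.1 h
  obtain ⟨b, hb⟩ : ∃ b : M → A, ∑ t ∈ T, b t • t = m := by
    refine ⟨fun t => if ht : t ∈ T then c ⟨t, ht⟩ else 0, ?_⟩
    rw [← hc, ← Finset.sum_coe_sort T]
    refine Finset.sum_congr rfl fun t _ => ?_
    simp only [dif_pos t.2]
  refine ⟨fun t => if δ t ≤ k then (DirectSum.decompose 𝒜 (b t) (k - δ t) : A) else 0, ?_, ?_, ?_⟩
  · intro t _ hk
    simp only [if_pos hk]
    exact SetLike.coe_mem _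
  · intro t _ hk
    simp only [if_neg hk]
  · have h1 := DirectSum.decompose_of_mem_same ℳ hm
    rw [← hb, DirectSum.decompose_sum, DFinsupp.finsetSum_apply, AddSubmonoidClass.coe_finsetSum, hb] at h1
    rw [← h1]
    refine Finset.sum_congr rfl fun t ht => ?_
    by_cases hk : δ t ≤ k
    · simp only [if_pos hk]
      have := decompose_smul_of_mem 𝒜 (b t) (hδ t ht) (k - δ t)
      rwa [Nat.sub_add_cancel hk] at this
    · simp only [if_neg hk, zero_smul]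
      exact decompose_smul_of_lt 𝒜 (b t) (hδ t ht) (by omega)

section finite

variable {f : A} (hf : f ∈ 𝒜 1)

/-- The section `m / f ^ k` of `M~` over `D_+(f)`. -/
def fsec (k : ℕ) {m : M} (hm : m ∈ ℳ k) : Γ(GrMod.tilde 𝒜 ℳ 0, Proj.basicOpen 𝒜 f) :=
  gfrac 0 (Proj.basicOpen 𝒜 f) (pow_mem' hf k) ((NV.basicOpen f).pow k) (mem_zdeg_of_eq (by simp) hm)

theorem fsec_congr {l l' : ℕ} {m m' : M} {hm : m ∈ ℳ l} {hm' : m' ∈ ℳ l'}
    (h : f ^ l' • m = f ^ l • m') : fsec hf l hm = fsec hf l' hm' :=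
  gfrac_congr h

theorem fsec_add (l : ℕ) {m m' : M} (hm : m ∈ ℳ l) (hm' : m' ∈ ℳ l) :
    fsec hf l (add_mem hm hm') = fsec hf l hm + fsec hf l hm' :=
  (gfrac_add 0 _ _ _ _ _).symm

theorem fsec_zero (l : ℕ) : fsec hf l (zero_mem (ℳ l)) = 0 := by
  have h := fsec_add hf l (zero_mem (ℳ l)) (zero_mem (ℳ l))
  have h2 : fsec hf l (add_mem (zero_mem (ℳ l)) (zero_mem (ℳ l))) =
      fsec hf l (zero_mem (ℳ l)) := fsec_congr hf (by rw [add_zero])
  rw [h2] at h
  exact left_eq_add.mp h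

/-- `(a / f ^ j) • (m / f ^ l) = (a • m) / f ^ (j + l)`. -/
theorem ofrac_smul_fsec {j l : ℕ} {a : A} (ha : a ∈ 𝒜 (j * 1)) {m : M} (hm : m ∈ ℳ l)
    (ham : a • m ∈ ℳ (j + l)) :
    ofrac (Proj.basicOpen 𝒜 f) ha (pow_mem' hf j) ((NV.basicOpen f).pow j) • fsec hf l hm = fsec hf (j + l) ham := by
  rw [fsec, ofrac_smul_gfrac]
  refine gfrac_congr ?_
  rw [pow_add]

/-- The elements `m` of degree `l` such that the section `m / f ^ l` lies in `N`. -/
def PP (N : Submodule Γ(Proj 𝒜, Proj.basicOpen 𝒜 f) Γ(GrMod.tilde 𝒜 ℳ 0, Proj.basicOpen 𝒜 f)) (l : ℕ) :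
    AddSubmonoid M where
  carrier := {m | ∃ hm : m ∈ ℳ l, fsec hf l hm ∈ N}
  add_mem' := by
    rintro m m' ⟨hm, h⟩ ⟨hm', h'⟩
    exact ⟨add_mem hm hm', by rw [fsec_add hf l hm hm']; exact add_mem h h'⟩
  zero_mem' := ⟨zero_mem _, by rw [fsec_zero]; exact zero_mem _⟩

include hf in
theorem finite_sections {n : ℕ} (h : (Submodule.span A (⋃ k ∈ Set.Ici n, (ℳ k : Set M))).FG) :
    Module.Finite Γ(Proj 𝒜, Proj.basicOpen 𝒜 f) Γ(GrMod.tilde 𝒜 ℳ 0, Proj.basicOpen 𝒜 f) := by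
  classical
  obtain ⟨T, δ, hδ, hT⟩ := exists_homog_gen h
  let S : Finset Γ(GrMod.tilde 𝒜 ℳ 0, Proj.basicOpen 𝒜 f) := T.attach.image fun t => fsec hf (δ t.1) (hδ t.1 t.2)
  refine ⟨⟨S, ?_⟩⟩
  rw [eq_top_iff]
  rintro s -
  obtain ⟨k, m, hm, hV, rfl⟩ := exists_gfrac_basicOpen 0 one_pos hf rfl s
  have hm0 : m ∈ ℳ k := mem_of_mem_zdeg (by simp) hm
  have hm1 : f ^ n • m ∈ ℳ (n + k) := by
    have := smul_mem_add 𝒜 (pow_mem' hf n) hm0
    rwa [mul_one] at this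
  have h1 : gfrac 0 (Proj.basicOpen 𝒜 f) (pow_mem' hf k) hV hm = fsec hf (n + k) hm1 := by
    refine gfrac_congr ?_
    rw [smul_smul, ← pow_add, add_comm]
  rw [h1]
  obtain ⟨c, hc, hc0, hsum⟩ := exists_coeff 𝒜 hδ hm1 (hT _ (Nat.le_add_right _ _) _ hm1)
  have h2 : f ^ n • m ∈ PP hf (Submodule.span Γ(Proj 𝒜, Proj.basicOpen 𝒜 f) (S : Set _)) (ℳ := ℳ) (n + k) := by
    rw [hsum]
    refine sum_mem fun t ht => ?_
    by_cases hk : δ t ≤ n + k
    · have hct : c t ∈ 𝒜 ((n + k - δ t) * 1) := by rw [mul_one]; exact hc t ht hk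
      have h3 : c t • t ∈ ℳ (n + k - δ t + δ t) := smul_mem_add 𝒜 (hc t ht hk) (hδ t ht)
      have h4 : c t • t ∈ ℳ (n + k) := by rwa [Nat.sub_add_cancel hk] at h3
      refine ⟨h4, ?_⟩
      have h5 : fsec hf (n + k) h4 = fsec hf (n + k - δ t + δ t) h3 :=
        fsec_congr hf (by rw [Nat.sub_add_cancel hk])
      rw [h5, ← ofrac_smul_fsec hf hct (hδ t ht) h3]
      refine Submodule.smul_mem _ _ (Submodule.subset_span ?_)
      exact Finset.mem_coe.2 (Finset.mem_image.2 ⟨⟨t, ht⟩, Finset.mem_attach _ _, rfl⟩)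
    · rw [hc0 t ht hk, zero_smul]
      exact zero_mem _
  exact h2.2

end finite

/-- If `A_1` is finitely generated, the algebra is generated in degree one, `M` satisfies (TF) and `M~ = 0`, then `M`
satisfies (TN). -/
theorem TN_of_zero (hgen : Subring.closure ((𝒜 0 : Set A) ∪ (𝒜 1 : Set A)) = ⊤) (B : Finset A)
    (hB : ∀ b ∈ B, b ∈ 𝒜 1) (hB' : ∀ a ∈ 𝒜 1, a ∈ Ideal.span (B : Set A))
    {n : ℕ} (h : (Submodule.span A (⋃ k ∈ Set.Ici n, (ℳ k : Set M))).FG)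
    (h0 : ∀ (V : (Proj 𝒜).Opens) (s : Γ(GrMod.tilde 𝒜 ℳ 0, V)), s = 0) :
    ∃ n₀ : ℕ, ∀ k, n₀ ≤ k → ∀ m ∈ ℳ k, m = 0 := by
  classical
  obtain ⟨T, δ, hδ, hT⟩ := exists_homog_gen h
  -- every generator is killed by a power of every `b`
  have h1 : ∀ b ∈ B, ∀ t ∈ T, ∃ N : ℕ, b ^ N • t = 0 := by
    intro b hb t ht
    have h2 := h0 _ (fsec (hB b hb) (δ t) (hδ t ht))
    refine exists_pow_smul_eq_zero 𝒜 (ℳ := ℳ) one_pos (hB b hb) (k := (δ t : ℤ)) (hδ t ht) fun x hx => ?_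
    have h3 : gval (fsec (hB b hb) (δ t) (hδ t ht)) ⟨x, hx⟩ = 0 := by rw [h2]; rfl
    obtain ⟨j, a, -, -, hax, ha0⟩ := exists_smul_eq_zero (ℳ := ℳ) x (k := (δ t : ℤ)) (hδ t ht) h3 0
    exact ⟨a, hax, ha0⟩
  choose! N₀ hN₀ using h1
  let N : ℕ := B.sup fun b => T.sup fun t => N₀ b t
  have hN : ∀ b ∈ B, ∀ t ∈ T, b ^ N • t = 0 := by
    intro b hb t ht
    have hle : N₀ b t ≤ N :=
      (Finset.le_sup (f := fun t => N₀ b t) ht).trans (Finset.le_sup (f := fun b => T.sup fun t => N₀ b t) hb)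
    obtain ⟨c, hc⟩ := Nat.exists_eq_add_of_le' hle
    rw [hc, pow_add, mul_smul, hN₀ b hb t ht, smul_zero]
  -- a power of `(B)` lies in the ideal generated by the `b ^ N`
  obtain ⟨L, hL⟩ : ∃ L, Ideal.span (B : Set A) ^ L ≤ Ideal.span ((fun b => b ^ N) '' (B : Set A)) := by
    refine Ideal.exists_pow_le_of_le_radical_of_fg (Ideal.span_le.2 fun b hb => ?_) ⟨B, rfl⟩
    exact ⟨N, Ideal.subset_span ⟨b, hb, rfl⟩⟩
  have hkill : ∀ a ∈ Ideal.span ((fun b => b ^ N) '' (B : Set A)), ∀ t ∈ T, a • t = 0 := by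
    intro a ha t ht
    induction ha using Submodule.span_induction with
    | mem a ha =>
      obtain ⟨b, hb, rfl⟩ := ha
      exact hN b hb t ht
    | zero => rw [zero_smul]
    | add a a' _ _ h h' => rw [add_smul, h, h', add_zero]
    | smul c a _ h => rw [smul_assoc, h, smul_zero]
  refine ⟨max n (L + T.sup δ), fun k hk m hm => ?_⟩
  obtain ⟨c, hc, hc0, hsum⟩ := exists_coeff 𝒜 hδ hm (hT _ ((le_max_left _ _).trans hk) _ hm)
  rw [hsum]
  refine Finset.sum_eq_zero fun t ht => ?_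
  have h3 : δ t ≤ T.sup δ := Finset.le_sup ht
  have h4 : L + T.sup δ ≤ k := (le_max_right _ _).trans hk
  refine hkill _ (hL ?_) t ht
  have h5 := mem_pow_of_closure hgen (Ideal.span (B : Set A)) hB' (hc t ht (by omega))
  exact Ideal.pow_le_pow_right (by omega) h5

end K31.GrTF
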