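import Groth.Agent.EGA2.K34.RelAmpQuot
import Groth.Agent.EGA2.K34.ProjDegree
import Groth.Agent.EGA2.K32.ProjProper
import Groth.Agent.EGA2.K40.RelZero
import Groth.Agent.EGA2.K31.GrTF

/-!
# Powers of `O_P(1)` and generation of `F(n)` over `Proj` of an algebra generated in degree one

* `relAmple_one`: `O_P(1)` is relatively ample (and invertible);
* `nonempty_iso_pow`: `O_P(1)^{⊗ m} ≅ O_P(m)`;
* `exists_forall_genOn`: over a quasi-compact base `F(n)` is generated over the `p⁻¹ V` by its sections for large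
  `n`, for `F` quasi-coherent of finite type;
* `epi_counit`: the counit `p^* p_* F(n) ⟶ F(n)` is an epimorphism for large `n`.
-/

set_option autoImplicit false
universe u

open CategoryTheory CategoryTheory.Limits AlgebraicGeometry TopologicalSpace Opposite
open scoped HomogeneousIdeal

noncomputable section

namespace K31.RelPow

open RelProj

variable {S P : Scheme.{u}} {𝒮 : RelProj.QCGrAlg S} {p : P ⟶ S}
  {chart : ∀ (U : S.Opens) (hU : IsAffineOpen U), (((p ⁻¹ᵁ U : P.Opens) : Scheme.{u}) ≅ Proj (𝒮.deg U hU))}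

/-- `O_P(1)` is relatively ample. -/
theorem relAmple_one (hP : IsRelProj 𝒮 p chart) (hgen : 𝒮.IsGenDegOne) (hft : 𝒮.IsFTDeg 1) {L : P.Modules}
    {lam : ∀ (U : S.Opens) (hU : IsAffineOpen U),
      L ⟶ (Scheme.Modules.pushforward (emb p chart U hU)).obj (GrTwist.twist (𝒮.deg U hU) 1)}
    (hL : IsRelTwist 𝒮 p chart 1 L lam) : RelAmple.IsRelAmple p L := by
  have hp : IsProper p := Groth.Agent.EGA2.K32.ProjProper.isProper_of_isRelProj hP hgen hft
  refine Groth.Agent.Ega2.RelAmp.isRelAmple_of_forall_exists fun y => ?_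
  obtain ⟨_, ⟨V, hV, rfl⟩, hyV, -⟩ :=
    S.isBasis_affineOpens.exists_subset_of_mem_open (Set.mem_univ y) isOpen_univ
  refine ⟨V, hV, hyV, ?_⟩
  refine K34.ProjDegree.ampleOn (d := 1) one_pos (lam := lam) hL hV fun x => ?_
  obtain ⟨f, hf, hfx⟩ := K31.GrTF.exists_one_notMem (hgen V hV) x
  exact ⟨⟨f, hf⟩, hfx⟩

/-- `O_P(1)^{⊗ m} ≅ O_P(m)`. -/
theorem nonempty_iso_pow (hP : IsRelProj 𝒮 p chart) (hgen : 𝒮.IsGenDegOne) {L₁ : P.Modules}
    {lam₁ : ∀ (U : S.Opens) (hU : IsAffineOpen U),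
      L₁ ⟶ (Scheme.Modules.pushforward (emb p chart U hU)).obj (GrTwist.twist (𝒮.deg U hU) 1)}
    (hL₁ : IsRelTwist 𝒮 p chart 1 L₁ lam₁)
    (hex : ∀ m : ℕ, ∃ (L : P.Modules) (lam : ∀ (U : S.Opens) (hU : IsAffineOpen U),
      L ⟶ (Scheme.Modules.pushforward (emb p chart U hU)).obj (GrTwist.twist (𝒮.deg U hU) (m : ℤ))),
      IsRelTwist 𝒮 p chart (m : ℤ) L lam) (m : ℕ) (L : P.Modules)
    (lam : ∀ (U : S.Opens) (hU : IsAffineOpen U),
      L ⟶ (Scheme.Modules.pushforward (emb p chart U hU)).obj (GrTwist.twist (𝒮.deg U hU) (m : ℤ)))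
    (hL : IsRelTwist 𝒮 p chart (m : ℤ) L lam) : Nonempty (CohB1.tensorPow L₁ m ≅ L) := by
  induction m generalizing L with
  | zero =>
    obtain ⟨e⟩ := K40.RelMul.nonempty_iso_twist hP hgen (k := ((0 : ℕ) : ℤ)) (m := 0) (n := 0) (by simp)
      (K40.RelZero.isRelTwist_zero hP) (K40.RelZero.isRelTwist_zero hP) hL
    exact ⟨(Groth.Agent.Ega2.Tens.runit _).symm ≪≫ e⟩
  | succ m ih =>
    obtain ⟨L', lam', hL'⟩ := hex m
    obtain ⟨e⟩ := ih L' lam' hL'
    obtain ⟨e'⟩ := K40.RelMul.nonempty_iso_twist hP hgen (by push_cast; ring) hL' hL₁ hL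
    exact ⟨Groth.Agent.Ega2.Tens.mapTIso e (Iso.refl _) ≪≫ e'⟩

/-- Generation passes to isomorphic modules. -/
theorem genOn_of_iso {X : Scheme.{u}} {M N : X.Modules} (e : M ≅ N) {U : X.Opens}
    (h : K34.GenOn.GenOn M (Set.univ : Set Γ(M, U))) : K34.GenOn.GenOn N (Set.univ : Set Γ(N, U)) := by
  intro x hx
  obtain ⟨W, hW, hxW, hWa, hs⟩ := h x hx
  refine ⟨W, hW, hxW, hWa, ?_⟩
  rw [eq_top_iff]
  intro t _
  have h1 : e.inv.app W t ∈ Submodule.span Γ(X, W)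
      (Groth.Agent.Fdesc.LocGen.res M hW '' (Set.univ : Set Γ(M, U))) := by rw [hs]; trivial
  have h2 : e.hom.app W (e.inv.app W t) = t := by
    have := congrArg (fun f : N ⟶ N => f.app W t) e.inv_hom_id
    exact this
  rw [← h2]
  generalize e.inv.app W t = t' at h1
  induction h1 using Submodule.span_induction with
  | mem y hy =>
    obtain ⟨s, -, rfl⟩ := hy
    refine Submodule.subset_span ⟨e.hom.app U s, trivial, ?_⟩
    exact (Groth.Agent.Fdesc.LocGen.app_res e.hom hW s).symm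
  | zero => rw [map_zero]; exact Submodule.zero_mem _
  | add y z _ _ hy hz => rw [map_add]; exact Submodule.add_mem _ hy hz
  | smul a y _ hy => rw [Scheme.Modules.Hom.app_smul]; exact Submodule.smul_mem _ _ hy

/-- `F(n)` is generated by its sections over the `p⁻¹ V`, for large `n`. -/
theorem exists_forall_genOn (hP : IsRelProj 𝒮 p chart) [CompactSpace S] (hgen : 𝒮.IsGenDegOne)
    (hft : 𝒮.IsFTDeg 1)
    (hex : ∀ m : ℕ, ∃ (L : P.Modules) (lam : ∀ (U : S.Opens) (hU : IsAffineOpen U),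
      L ⟶ (Scheme.Modules.pushforward (emb p chart U hU)).obj (GrTwist.twist (𝒮.deg U hU) (m : ℤ))),
      IsRelTwist 𝒮 p chart (m : ℤ) L lam) {F : P.Modules} (hF : Coh.IsCoh F) :
    ∃ m₀ : ℕ, ∀ m : ℕ, m₀ ≤ m → ∀ (L : P.Modules) (lam : ∀ (U : S.Opens) (hU : IsAffineOpen U),
      L ⟶ (Scheme.Modules.pushforward (emb p chart U hU)).obj (GrTwist.twist (𝒮.deg U hU) (m : ℤ))),
      IsRelTwist 𝒮 p chart (m : ℤ) L lam → Coh.IsQCoh (CohB1.tensorMod F L) ∧
        ∀ y : S, ∃ V : S.Opens, y ∈ V ∧ IsAffineOpen V ∧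
          K34.GenOn.GenOn (CohB1.tensorMod F L) (Set.univ : Set Γ(CohB1.tensorMod F L, p ⁻¹ᵁ V)) := by
  obtain ⟨L₁, lam₁, hL₁⟩ := hex 1
  have hL₁' : IsRelTwist 𝒮 p chart 1 L₁ lam₁ := hL₁
  have hamp := relAmple_one hP hgen hft hL₁'
  have hinv := K34.RelAmpInv.isInvertible_of_isRelAmple p hamp
  obtain ⟨m₀, hm₀⟩ := K34.RelAmpQuot.exists_forall_genOn p hamp hF
  refine ⟨m₀, fun m hm L lam hL => ?_⟩
  obtain ⟨e⟩ := nonempty_iso_pow hP hgen hL₁' hex m L lam hL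
  have e' : CohB1.tensorMod F (CohB1.tensorPow L₁ m) ≅ CohB1.tensorMod F L :=
    Groth.Agent.Ega2.Tens.mapTIso (Iso.refl _) e
  have hq : Coh.IsQCoh (CohB1.tensorMod F (CohB1.tensorPow L₁ m)) :=
    Groth.Agent.Ega2.TensGen.isQCoh_tensor hF.1 (Groth.Agent.Fdesc.LocGen.isInvertible_tensorPow hinv m)
  refine ⟨?_, fun y => ?_⟩
  · exact Groth.Agent.Ega1.QCohLoc.isQCoh_of_iso e' hq
  obtain ⟨V, hy, hV, hg⟩ := hm₀ m hm y
  exact ⟨V, hy, hV, genOn_of_iso e' hg⟩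

/-- The counit `p^* p_* F(n) ⟶ F(n)` is an epimorphism for large `n`. -/
theorem epi_counit (hP : IsRelProj 𝒮 p chart) [CompactSpace S] (hgen : 𝒮.IsGenDegOne)
    (hft : 𝒮.IsFTDeg 1)
    (hex : ∀ m : ℕ, ∃ (L : P.Modules) (lam : ∀ (U : S.Opens) (hU : IsAffineOpen U),
      L ⟶ (Scheme.Modules.pushforward (emb p chart U hU)).obj (GrTwist.twist (𝒮.deg U hU) (m : ℤ))),
      IsRelTwist 𝒮 p chart (m : ℤ) L lam) {F : P.Modules} (hF : Coh.IsCoh F) :
    ∃ n₀ : ℤ, ∀ n : ℤ, n₀ ≤ n → ∀ (L : P.Modules) (lam : ∀ (U : S.Opens) (hU : IsAffineOpen U),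
      L ⟶ (Scheme.Modules.pushforward (emb p chart U hU)).obj (GrTwist.twist (𝒮.deg U hU) n)),
      IsRelTwist 𝒮 p chart n L lam →
        Epi ((Scheme.Modules.pullbackPushforwardAdjunction p).counit.app (CohB1.tensorMod F L)) := by
  obtain ⟨m₀, hm₀⟩ := exists_forall_genOn hP hgen hft hex hF
  refine ⟨m₀, fun n hn L lam hL => ?_⟩
  obtain ⟨m, rfl⟩ : ∃ m : ℕ, n = (m : ℤ) := ⟨n.toNat, by omega⟩
  obtain ⟨hq, hg⟩ := hm₀ m (by omega) L lam hL
  have h1 := K34.GenOn.epi_of_genOn p hq (𝟙 ((Scheme.Modules.pushforward p).obj (CohB1.tensorMod F L)))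
    (fun y => by
      obtain ⟨V, hy, -, hV⟩ := hg (p y)
      exact ⟨V, Set.univ, hy, hV, fun s _ => ⟨s, rfl⟩⟩)
  rwa [Adjunction.homEquiv_counit, CategoryTheory.Functor.map_id, Category.id_comp] at h1

end K31.RelPow
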