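import Groth.Agent.EGA2.K31.TwistGen
import Groth.Agent.Ega2.TwistMul
import Groth.Prelude.Def_GrMod2

/-!
# Products of sections of `M(m)~` and `O(n)`; `M(m)~ ⊗ O(n) ⟶ M(m + n)~`

* `tmulSec`, `tmulHom`: the product of sections and the induced morphism from the tensor product;
* `bijective_tmulSec`: multiplication by an invertible fraction is bijective;
* `isIso_tensDesc_right`: a pairing which becomes bijective after fixing a local generator of the second factor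
  induces an isomorphism `M ⊗ N ≅ K`;
* `isIso_tmulHom`: `M(m)~ ⊗ O(n) ≅ M(m + n)~` if `𝒜` is generated in degree one.
-/

set_option autoImplicit false
universe u
open CategoryTheory AlgebraicGeometry Limits TopologicalSpace Opposite TopCat
open Twist

namespace K31.TildeMul

open Groth.Agent.Ega2.TwistBasic Groth.Agent.Ega2.TensHom Groth.Agent.Ega2.TwistMul

section tens

variable {X : Scheme.{u}}

lemma bijective_lift_right {R M N K : Type u} [CommRing R] [AddCommGroup M] [AddCommGroup N] [AddCommGroup K]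
    [Module R M] [Module R N] [Module R K] (μ : M →ₗ[R] N →ₗ[R] K) (e' : N)
    (he' : Function.Bijective (fun c : R => c • e'))
    (h : Function.Bijective (fun m : M => μ m e')) :
    Function.Bijective (TensorProduct.lift μ) := by
  obtain ⟨b, hb⟩ : ∃ b : R ≃ₗ[R] N, ∀ c, b c = c • e' :=
    ⟨LinearEquiv.ofBijective (LinearMap.toSpanSingleton R N e') he', fun c => rfl⟩
  let g : M ≃ₗ[R] TensorProduct R M N :=
    (TensorProduct.rid R M).symm ≪≫ₗ TensorProduct.congr (LinearEquiv.refl R M) b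
  have hg : ∀ m, TensorProduct.lift μ (g m) = μ m e' := by
    intro m
    simp [g, hb]
  have h3 : Function.Bijective (TensorProduct.lift μ ∘ g) := by
    convert h using 1
    funext c
    exact hg c
  exact (Function.Bijective.of_comp_iff _ g.bijective).1 h3

theorem isIso_tensDesc_right {M N K : X.Modules}
    (μ : ∀ U : X.Opens, Γ(M, U) →ₗ[Γ(X, U)] Γ(N, U) →ₗ[Γ(X, U)] Γ(K, U))
    (hμ : ∀ (U V : X.Opens) (i : U ⟶ V) (m : Γ(M, V)) (n : Γ(N, V)),
      K.presheaf.map i.op (μ V m n) = μ U (M.presheaf.map i.op m) (N.presheaf.map i.op n))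
    (h : ∀ x : X, ∃ (U : X.Opens) (e' : Γ(N, U)), x ∈ U ∧ IsGen N U e' ∧
      ∀ (V : X.Opens) (hV : V ≤ U), Function.Bijective
        (fun m : Γ(M, V) => μ V m (N.presheaf.map (homOfLE hV).op e'))) :
    IsIso (tensDesc μ hμ) := by
  refine isIso_desc _ (fun x => ?_)
  obtain ⟨U, e', hxU, he', hee'⟩ := h x
  refine ⟨U, hxU, fun V hV => ?_⟩
  exact bijective_lift_right (μ V) (N.presheaf.map (homOfLE hV).op e') (he' V hV) (hee' V hV)

end tens

variable {R A : Type u} [CommRing R] [CommRing A] [Algebra R A] {𝒜 : ℕ → Submodule R A} [GradedAlgebra 𝒜]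
variable {M : Type u} [AddCommGroup M] [Module R M] [Module A M] {ℳ : ℕ → Submodule R M} [SetLike.GradedSMul 𝒜 ℳ]

theorem smul_mem_tildeAt {m n k : ℤ} (hk : m + n = k) (x : ProjectiveSpectrum 𝒜) {p : GrTilde.LocMod 𝒜 (M := M) x}
    {q : Loc 𝒜 x} (hp : p ∈ GrTilde.tildeAt 𝒜 ℳ m x) (hq : q ∈ twistAt 𝒜 n x) :
    q • p ∈ GrTilde.tildeAt 𝒜 ℳ k x := by
  induction hp using Submodule.span_induction with
  | zero => rw [smul_zero]; exact zero_mem _
  | add p p' _ _ hp hp' => rw [smul_add]; exact add_mem hp hp'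
  | smul c p _ hp =>
    have : q • c • p = c • q • p := by
      rw [GrTilde.a0_smul_def, GrTilde.a0_smul_def, smul_smul, smul_smul, mul_comm]
    rw [this]
    exact Submodule.smul_mem _ _ hp
  | mem p hp =>
    obtain ⟨i, j, a, s, hs, hij, rfl⟩ := hp
    induction hq using Submodule.span_induction with
    | zero => rw [zero_smul]; exact zero_mem _
    | add q q' _ _ hq hq' => rw [add_smul]; exact add_mem hq hq'
    | smul c q _ hq =>
      have : (c • q) • (LocalizedModule.mk a.1 ⟨s.1, hs⟩ : GrTilde.LocMod 𝒜 (M := M) x) =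
          c • q • (LocalizedModule.mk a.1 ⟨s.1, hs⟩ : GrTilde.LocMod 𝒜 (M := M) x) := by
        rw [GrTilde.a0_smul_def, Algebra.smul_def, mul_smul]
        rfl
      rw [this]
      exact Submodule.smul_mem _ _ hq
    | mem q hq =>
      obtain ⟨i', j', a', s', hs', hij', rfl⟩ := hq
      refine Submodule.subset_span ⟨i' + i, j' + j, ⟨a'.1 • a.1, SetLike.GradedSMul.smul_mem a'.2 a.2⟩,
        ⟨s'.1 * s.1, SetLike.mul_mem_graded s'.2 s.2⟩, fun h' => (x.isPrime.mem_or_mem h').elim hs' hs, ?_, ?_⟩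
      · push_cast; omega
      · exact LocalizedModule.mk_smul_mk _ _ _ _

/-- Product of a section of `M(m)~` and a section of `O(n)`. -/
noncomputable def tmulSec {m n k : ℤ} (hk : m + n = k) {U : Opens (ProjectiveSpectrum.top 𝒜)}
    (s : GrTilde.sect 𝒜 ℳ m (op U)) (t : sectN (𝒜 := 𝒜) n (op U)) : GrTilde.sect 𝒜 ℳ k (op U) :=
  ⟨fun x => ⟨(t.1 x).1 • (s.1 x).1, smul_mem_tildeAt hk x.1 (s.1 x).2 (t.1 x).2⟩, fun x => by
    obtain ⟨V, hxV, e, i, j, a, r, hr, har, ha⟩ := s.2 x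
    obtain ⟨V', hxV', e', i', j', a', r', hr', har', ha'⟩ := t.2 x
    refine ⟨V ⊓ V', ⟨hxV, hxV'⟩, Opens.infLELeft _ _ ≫ e, i' + i, j' + j,
      ⟨a'.1 • a.1, SetLike.GradedSMul.smul_mem a'.2 a.2⟩, ⟨r'.1 * r.1, SetLike.mul_mem_graded r'.2 r.2⟩,
      fun y h' => (y.1.isPrime.mem_or_mem h').elim (hr' ⟨y.1, y.2.2⟩) (hr ⟨y.1, y.2.1⟩), ?_, fun y => ?_⟩
    · rcases har with har | har
      · rcases har' with har' | har'
        · left; push_cast; omega
        · right; change a'.1 • a.1 = 0; rw [har', zero_smul]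
      · right; change a'.1 • a.1 = 0; rw [har, smul_zero]
    · have h1 := ha ⟨y.1, y.2.1⟩
      have h2 := ha' ⟨y.1, y.2.2⟩
      refine (congrArg₂ (fun (q : Loc 𝒜 y.1) (p : GrTilde.LocMod 𝒜 (M := M) y.1) => q • p) h2 h1).trans ?_
      exact LocalizedModule.mk_smul_mk _ _ _ _⟩

@[simp] lemma tmulSec_val {m n k : ℤ} (hk : m + n = k) {U : Opens (ProjectiveSpectrum.top 𝒜)}
    (s : GrTilde.sect 𝒜 ℳ m (op U)) (t : sectN (𝒜 := 𝒜) n (op U)) (x : U) :
    ((tmulSec hk s t).1 x).1 = (t.1 x).1 • (s.1 x).1 := rfl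

lemma tmulSec_add_left {m n k : ℤ} (hk : m + n = k) {U : Opens (ProjectiveSpectrum.top 𝒜)}
    (s s' : GrTilde.sect 𝒜 ℳ m (op U)) (t : sectN (𝒜 := 𝒜) n (op U)) :
    tmulSec hk (s + s') t = tmulSec hk s t + tmulSec hk s' t := by
  refine Subtype.ext (funext fun x => Subtype.ext ?_)
  exact smul_add (t.1 x).1 (s.1 x).1 (s'.1 x).1

lemma tmulSec_add_right {m n k : ℤ} (hk : m + n = k) {U : Opens (ProjectiveSpectrum.top 𝒜)}
    (s : GrTilde.sect 𝒜 ℳ m (op U)) (t t' : sectN (𝒜 := 𝒜) n (op U)) :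
    tmulSec hk s (t + t') = tmulSec hk s t + tmulSec hk s t' := by
  refine Subtype.ext (funext fun x => Subtype.ext ?_)
  exact add_smul (t.1 x).1 (t'.1 x).1 (s.1 x).1

/-- Scalar multiplication of sections of `M(m)~` (a helper for elaboration). -/
noncomputable def gsmulS (m : ℤ) {U : Opens (ProjectiveSpectrum.top 𝒜)} (c : O (𝒜 := 𝒜) (op U))
    (s : GrTilde.sect 𝒜 ℳ m (op U)) : GrTilde.sect 𝒜 ℳ m (op U) := c • s

lemma gsmulS_val (m : ℤ) {U : Opens (ProjectiveSpectrum.top 𝒜)} (c : O (𝒜 := 𝒜) (op U))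
    (s : GrTilde.sect 𝒜 ℳ m (op U)) (x : U) :
    (((gsmulS m c s).1 x).1 : GrTilde.LocMod 𝒜 (M := M) x.1) = (c.1 x).val • (s.1 x).1 := rfl

lemma tmulSec_smul_left {m n k : ℤ} (hk : m + n = k) {U : Opens (ProjectiveSpectrum.top 𝒜)}
    (c : O (𝒜 := 𝒜) (op U)) (s : GrTilde.sect 𝒜 ℳ m (op U)) (t : sectN (𝒜 := 𝒜) n (op U)) :
    tmulSec hk (gsmulS m c s) t = gsmulS k c (tmulSec hk s t) := by
  refine Subtype.ext (funext fun x => Subtype.ext ?_)
  rw [tmulSec_val, gsmulS_val, gsmulS_val, tmulSec_val, smul_smul, smul_smul, mul_comm]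

lemma tmulSec_smul_right {m n k : ℤ} (hk : m + n = k) {U : Opens (ProjectiveSpectrum.top 𝒜)}
    (c : O (𝒜 := 𝒜) (op U)) (s : GrTilde.sect 𝒜 ℳ m (op U)) (t : sectN (𝒜 := 𝒜) n (op U)) :
    tmulSec hk s (smulS n c t) = gsmulS k c (tmulSec hk s t) := by
  refine Subtype.ext (funext fun x => Subtype.ext ?_)
  rw [tmulSec_val, smulS_val, gsmulS_val, tmulSec_val, smul_smul]

variable (𝒜 ℳ) in
/-- The product, as a family of bilinear maps. -/
noncomputable def tmulLin {m n k : ℤ} (hk : m + n = k) (U : (Proj 𝒜).Opens) :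
    Γ(GrTilde.tilde 𝒜 ℳ m, U) →ₗ[Γ(Proj 𝒜, U)] Γ(twist 𝒜 n, U) →ₗ[Γ(Proj 𝒜, U)] Γ(GrTilde.tilde 𝒜 ℳ k, U) :=
  LinearMap.mk₂ _ (fun s t => (tmulSec (𝒜 := 𝒜) (ℳ := ℳ) (U := U) hk s t : Γ(GrTilde.tilde 𝒜 ℳ k, U)))
    (tmulSec_add_left hk) (fun c s t => tmulSec_smul_left hk c s t) (tmulSec_add_right hk)
    (fun c s t => tmulSec_smul_right hk c s t)

variable (𝒜 ℳ) in
/-- The multiplication `M(m)~ ⊗ O(n) ⟶ M(m + n)~`. -/
noncomputable def tmulHom {m n k : ℤ} (hk : m + n = k) :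
    CohB1.tensorMod (GrTilde.tilde 𝒜 ℳ m) (twist 𝒜 n) ⟶ GrTilde.tilde 𝒜 ℳ k :=
  tensDesc (tmulLin 𝒜 ℳ hk) (fun _ _ _ _ _ => rfl)

/-- Multiplication by an invertible fraction is bijective. -/
theorem bijective_tmulSec {m n k : ℤ} (hk : m + n = k) {i j : ℕ} (a : 𝒜 i) (s : 𝒜 j) (h : (i : ℤ) = j + n)
    (U : Opens (ProjectiveSpectrum.top 𝒜)) (hU : ∀ x ∈ U, s.1 ∉ x.asHomogeneousIdeal)
    (hU' : ∀ x ∈ U, a.1 ∉ x.asHomogeneousIdeal) :
    Function.Bijective (fun t : GrTilde.sect 𝒜 ℳ m (op U) => tmulSec hk t (fracSec n a s h U hU)) := by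
  have key : ∀ x : U, (Localization.mk s.1 ⟨a.1, hU' x.1 x.2⟩ : Loc 𝒜 x.1) * Localization.mk a.1 ⟨s.1, hU x.1 x.2⟩ = 1 := by
    intro x
    rw [Localization.mk_mul, ← Localization.mk_one, Localization.mk_eq_mk_iff, Localization.r_iff_exists]
    refine ⟨1, ?_⟩
    simp only [OneMemClass.coe_one, one_mul, mul_one, Submonoid.coe_mul]
    ring
  have key' : ∀ x : U, (Localization.mk a.1 ⟨s.1, hU x.1 x.2⟩ : Loc 𝒜 x.1) * Localization.mk s.1 ⟨a.1, hU' x.1 x.2⟩ = 1 := by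
    intro x
    rw [mul_comm]
    exact key x
  constructor
  · intro t t' htt
    refine Subtype.ext (funext fun x => Subtype.ext ?_)
    have h1 := congrArg (fun z : GrTilde.sect 𝒜 ℳ k (op U) => (z.1 x).1) htt
    dsimp only at h1
    rw [tmulSec_val, tmulSec_val, fracSec_val] at h1
    have h2 := congrArg (fun z : GrTilde.LocMod 𝒜 (M := M) x.1 =>
      (Localization.mk s.1 ⟨a.1, hU' x.1 x.2⟩ : Loc 𝒜 x.1) • z) h1
    dsimp only at h2
    rwa [smul_smul, smul_smul, key, one_smul, one_smul] at h2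
  · intro t
    refine ⟨tmulSec (show k + (-n) = m by omega) t (fracSec (-n) s a (by omega) U hU'), ?_⟩
    refine Subtype.ext (funext fun x => Subtype.ext ?_)
    dsimp only
    rw [tmulSec_val, tmulSec_val, fracSec_val, fracSec_val, smul_smul, key', one_smul]

theorem bijective_tmulSec_powFrac {d : ℕ} {m n k : ℤ} (hk : m + n = k) (f : 𝒜 d) (l : ℤ) (hn : l * d = n)
    (U : Opens (ProjectiveSpectrum.top 𝒜)) (hU : ∀ x ∈ U, f.1 ∉ x.asHomogeneousIdeal) :
    Function.Bijective (fun t : GrTilde.sect 𝒜 ℳ m (op U) => tmulSec hk t (TwistGen.powFrac f l n hn U hU)) :=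
  bijective_tmulSec hk _ _ _ U _ (fun x hx => TwistGen.powE_notMem (hU x hx) _)

/-- `M(m)~ ⊗ O(l d) ≅ M(m + l d)~` if the `D_+(f)`, `f` of degree `d`, cover. -/
theorem isIso_tmulHom {d : ℕ} (hd : ∀ x : Proj 𝒜, ∃ f : 𝒜 d, f.1 ∉ (x : ProjectiveSpectrum 𝒜).asHomogeneousIdeal)
    {m n k : ℤ} (hk : m + n = k) (l : ℤ) (hn : l * d = n) : IsIso (tmulHom 𝒜 ℳ hk) :=
  isIso_tensDesc_right _ _ fun x => by
    obtain ⟨f, hf⟩ := hd x
    refine ⟨Proj.basicOpen 𝒜 f.1, TwistGen.powFrac f l n hn _ (fun y hy => hy), hf,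
      TwistGen.isGen_powFrac f l n hn _ _, ?_⟩
    intro V hV
    exact bijective_tmulSec_powFrac hk f l hn V (fun y hy => hV hy)

end K31.TildeMul
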