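import Groth.Agent.EGA2.K31.CounitEpi
import Groth.Agent.CohqA.IdealMod
import Groth.Agent.Ega1.QCohLoc
import Groth.Prelude.Def_Mor2
import Mathlib.AlgebraicGeometry.QuasiAffine

/-!
# Quasi-affine morphisms and the counit `f^* f_* F ⟶ F`
-/

set_option autoImplicit false
universe u
open CategoryTheory CategoryTheory.Limits AlgebraicGeometry Opposite TopologicalSpace

namespace K31.QAffHom

open Groth.Agent Groth.Agent.Fdesc.LocGen K31.CounitEpi

variable {X Y : Scheme.{u}}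

/-! ### Quasi-affine opens -/

/-- The affine basic opens of a quasi-affine open form a basis. -/
theorem exists_basicOpen {O : X.Opens} (hO : (O : Scheme.{u}).IsQuasiAffine) {x : X} (hx : x ∈ O) {U : X.Opens}
    (hxU : x ∈ U) : ∃ r : Γ(X, O), x ∈ X.basicOpen r ∧ X.basicOpen r ≤ U ∧ IsAffineOpen (X.basicOpen r) := by
  obtain ⟨_, ⟨_, ⟨r, hr, rfl⟩, rfl⟩, hxr, hrU⟩ := (Scheme.IsQuasiAffine.isBasis_basicOpen
    (O : Scheme.{u})).exists_subset_of_mem_open (show (⟨x, hx⟩ : O) ∈ ((O.ι ⁻¹ᵁ U : O.toScheme.Opens) : Set O) from hxU)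
      (O.ι ⁻¹ᵁ U).2
  have h1 : O.ι ''ᵁ (O : Scheme.{u}).basicOpen r = X.basicOpen (O.topIso.hom r) := by
    have h2 := Scheme.Opens.ι_image_basicOpen_topIso_inv (U := O) (O.topIso.hom r)
    have h3 : O.topIso.inv (O.topIso.hom r) = r := ConcreteCategory.congr_hom O.topIso.hom_inv_id r
    rwa [h3] at h2
  refine ⟨O.topIso.hom r, ?_, ?_, ?_⟩
  · rw [← h1]
    exact ⟨⟨x, hx⟩, hxr, rfl⟩
  · rw [← h1]
    rintro _ ⟨y, hy, rfl⟩
    exact hrU hy
  · rw [← h1]
    exact hr.image_of_isOpenImmersion O.ι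

/-- A quasi-compact open is quasi-affine if it is covered by affine basic opens. -/
theorem isQuasiAffine_of_exists {O : X.Opens} (hc : IsCompact (O : Set X))
    (h : ∀ x ∈ O, ∃ r : Γ(X, O), x ∈ X.basicOpen r ∧ IsAffineOpen (X.basicOpen r)) :
    (O : Scheme.{u}).IsQuasiAffine := by
  have : CompactSpace (O : Scheme.{u}) := isCompact_iff_compactSpace.mp hc
  refine Scheme.IsQuasiAffine.of_forall_exists_mem_basicOpen _ fun x => ?_
  obtain ⟨r, hxr, hr⟩ := h x.1 x.2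
  refine ⟨O.topIso.inv r, ?_, ?_⟩
  · rw [← Scheme.Hom.isAffineOpen_iff_of_isOpenImmersion O.ι, Scheme.Opens.ι_image_basicOpen_topIso_inv]
    exact hr
  · have h1 : x.1 ∈ O.ι ''ᵁ (O : Scheme.{u}).basicOpen (O.topIso.inv r) := by
      rw [Scheme.Opens.ι_image_basicOpen_topIso_inv]; exact hxr
    exact (Scheme.Opens.mem_ι_image_iff (U := O)).mp h1

/-! ### Quasi-affine implies the counit is an epimorphism -/

theorem hom_ext_of_isQuasiAffine (f : X ⟶ Y) (hf : Mor2.IsQuasiAffine f) {F Z : X.Modules} (hF : Coh.IsQCoh F)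
    (h₁ h₂ : F ⟶ Z) (hh : ∀ V : Y.Opens, h₁.app (f ⁻¹ᵁ V) = h₂.app (f ⁻¹ᵁ V)) : h₁ = h₂ := by
  apply Scheme.Modules.hom_ext
  intro U
  ext s
  have hloc : ∀ x : U, ∃ (W : X.Opens) (hW : W ≤ U), x.1 ∈ W ∧
      res Z hW (h₁.app U s) = res Z hW (h₂.app U s) := by
    intro x
    obtain ⟨_, ⟨V, hV, rfl⟩, hxV, -⟩ := Y.isBasis_affineOpens.exists_subset_of_mem_open (Set.mem_univ (f x.1)) isOpen_univ
    have hO := hf.2 V hV
    obtain ⟨r, hxr, hrU, hr⟩ := exists_basicOpen hO (x := x.1) hxV (U := U) x.2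
    refine ⟨X.basicOpen r, hrU, hxr, ?_⟩
    have hsep : IsQuasiSeparated ((f ⁻¹ᵁ V : X.Opens) : Set X) := by
      have : QuasiSeparatedSpace (f ⁻¹ᵁ V : X.Opens) := inferInstanceAs (QuasiSeparatedSpace ((f ⁻¹ᵁ V : X.Opens) : Scheme.{u}))
      exact isQuasiSeparated_iff_quasiSeparatedSpace _ (f ⁻¹ᵁ V).2 |>.mpr this
    obtain ⟨n, t, ht⟩ := (Ega1.QCohLoc.isLocAt_of_qcqs hF (V := f ⁻¹ᵁ V)
      (isCompact_iff_compactSpace.mpr (inferInstanceAs (CompactSpace ((f ⁻¹ᵁ V : X.Opens) : Scheme.{u}))))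
      hsep r).surj (res F hrU s)
    have ht' : res F (X.basicOpen_le r) t = ores (X.basicOpen_le r) r ^ n • res F hrU s := ht
    have hu : IsUnit (ores (X.basicOpen_le r) r ^ n) :=
      (X.toRingedSpace.isUnit_res_basicOpen r).pow n
    have e1 : h₁.app (X.basicOpen r) (res F (X.basicOpen_le r) t) =
        h₂.app (X.basicOpen r) (res F (X.basicOpen_le r) t) := by
      rw [app_res, app_res, hh V]
    rw [ht', Scheme.Modules.Hom.app_smul, Scheme.Modules.Hom.app_smul] at e1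
    have e2 := hu.smul_left_cancel.mp e1
    rw [app_res, app_res] at e2
    exact e2
  choose W hW hxW hres using hloc
  exact res_ext Z W hW (fun x hx => Opens.mem_iSup.mpr ⟨⟨x, hx⟩, hxW _⟩) hres

theorem epi_counit (f : X ⟶ Y) (hf : Mor2.IsQuasiAffine f) (F : X.Modules) (hF : Coh.IsQCoh F) :
    Epi ((Scheme.Modules.pullbackPushforwardAdjunction f).counit.app F) :=
  ⟨fun {_} h₁ h₂ hh => hom_ext_of_isQuasiAffine f hf hF h₁ h₂ ((counit_comp_eq_iff f h₁ h₂).mp hh)⟩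

/-! ### Quasi-affine morphisms are separated -/

theorem isSeparated (f : X ⟶ Y) (hf : Mor2.IsQuasiAffine f) : IsSeparated f := by
  rw [IsZariskiLocalAtTarget.iff_of_iSup_eq_top (P := @IsSeparated) (fun V : Y.affineOpens => V.1)
    (by exact iSup_affineOpens_eq_top Y)]
  intro V
  have h1 := hf.2 V.1 V.2
  have h2 : (f ⁻¹ᵁ V.1 : Scheme.{u}).IsSeparated := inferInstance
  have h3 : IsSeparated ((f ∣_ V.1) ≫ terminal.from _) := by
    rw [terminal.comp_from]
    exact h2.isSeparated_terminal_from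
  exact IsSeparated.of_comp _ (terminal.from _)

/-! ### The converse -/

/-- A section of the ideal module as a function. -/
noncomputable def val (I : X.IdealSheafData) {U : X.Opens} (i : Γ(ClSub.idealMod I, U)) : Γ(X, U) :=
  (ClSub.idealModι I).app U i

theorem ores_val (I : X.IdealSheafData) {U V : X.Opens} (h : V ≤ U) (i : Γ(ClSub.idealMod I, U)) :
    ores h (val I i) = val I (res _ h i) :=
  (app_res (ClSub.idealModι I) h i).symm

theorem basicOpen_le_compl (Z : Closeds X) {U : X.Opens} (t : Γ(ClSub.idealMod (Scheme.IdealSheafData.vanishingIdeal Z), U))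
    (x : X) (hx : x ∈ X.basicOpen (val _ t)) : x ∉ Z := by
  intro hxZ
  have hxU : x ∈ U := X.basicOpen_le _ hx
  obtain ⟨_, ⟨W, hW, rfl⟩, hxW, hWU⟩ := X.isBasis_affineOpens.exists_subset_of_mem_open hxU U.2
  have h1 : val (Scheme.IdealSheafData.vanishingIdeal Z) (res _ hWU t) ∈ (Scheme.IdealSheafData.vanishingIdeal Z).ideal ⟨W, hW⟩ :=
    Dix.IdealModSec.idealModι_app_mem _ ⟨W, hW⟩ _
  rw [Scheme.IdealSheafData.vanishingIdeal_ideal] at h1
  have h2 : val (Scheme.IdealSheafData.vanishingIdeal Z) (res _ hWU t) ∈ (hW.primeIdealOf ⟨x, hxW⟩).asIdeal := by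
    refine (PrimeSpectrum.mem_vanishingIdeal _ _).mp h1 _ ?_
    change hW.fromSpec (hW.primeIdealOf ⟨x, hxW⟩) ∈ Z
    rw [IsAffineOpen.fromSpec_primeIdealOf]
    exact hxZ
  have h3 : x ∈ X.basicOpen (val (Scheme.IdealSheafData.vanishingIdeal Z) (res _ hWU t)) := by
    rw [← ores_val, ores, Scheme.basicOpen_res]
    exact ⟨hxW, hx⟩
  have h4 : hW.primeIdealOf ⟨x, hxW⟩ ∈ hW.fromSpec ⁻¹ᵁ X.basicOpen (val (Scheme.IdealSheafData.vanishingIdeal Z) (res _ hWU t)) := by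
    have h5 : hW.fromSpec (hW.primeIdealOf ⟨x, hxW⟩) = x := hW.fromSpec_primeIdealOf ⟨x, hxW⟩
    exact (congrArg (fun z => z ∈ X.basicOpen (val (Scheme.IdealSheafData.vanishingIdeal Z) (res _ hWU t))) h5).mpr h3
  rw [hW.fromSpec_preimage_basicOpen] at h4
  exact h4 h2

theorem exists_one (W : X.Opens) (hW : IsAffineOpen W) (Z : Closeds X) (hZ : ∀ x ∈ W, x ∉ Z) :
    ∃ t : Γ(ClSub.idealMod (Scheme.IdealSheafData.vanishingIdeal Z), W), val _ t = 1 := by
  refine Dix.IdealModSec.exists_of_mem _ ⟨W, hW⟩ 1 ?_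
  rw [Scheme.IdealSheafData.vanishingIdeal_ideal]
  refine (PrimeSpectrum.mem_vanishingIdeal _ _).mpr fun x hx => ?_
  have h1 : hW.fromSpec x ∈ W := by
    rw [← SetLike.mem_coe, ← hW.range_fromSpec]
    exact ⟨x, rfl⟩
  exact absurd hx (hZ _ h1)

theorem isQuasiAffine_of_epi (f : X ⟶ Y) [QuasiCompact f] [QuasiSeparated f] 
    (h : ∀ F : X.Modules, Coh.IsQCoh F → Epi ((Scheme.Modules.pullbackPushforwardAdjunction f).counit.app F)) :
    Mor2.IsQuasiAffine f := by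
  refine ⟨inferInstance, fun V hV => ?_⟩
  have hc : IsCompact ((f ⁻¹ᵁ V : X.Opens) : Set X) := QuasiCompact.isCompact_preimage (f := f) V.1 V.2 hV.isCompact
  have hqs : IsQuasiSeparated ((f ⁻¹ᵁ V : X.Opens) : Set X) := f.isQuasiSeparated_preimage hV.isQuasiSeparated
  refine isQuasiAffine_of_exists hc fun x hx => ?_
  obtain ⟨_, ⟨W, hW, rfl⟩, hxW, hWV⟩ := X.isBasis_affineOpens.exists_subset_of_mem_open hx (f ⁻¹ᵁ V).2
  let Z : Closeds X := ⟨(W : Set X)ᶜ, W.2.isClosed_compl⟩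
  let I := Scheme.IdealSheafData.vanishingIdeal Z
  obtain ⟨t, ht⟩ := exists_one W hW Z (fun y hy hyZ => hyZ hy)
  have ht' : (ClSub.idealModι I).app W t = one W := ht
  obtain ⟨V', hV', r, hr⟩ := exists_app_notMem_of_epi_counit f (h _ (CohqA.IdealMod.isQCoh_idealMod I))
    (ClSub.idealModι I) t (by rw [ht']; exact isGen_one W) x hxW
  have h1 : x ∈ X.basicOpen (val I r) := mem_basicOpen _ x hV' hr
  -- shrink to a basic open of `V`
  obtain ⟨a, haV', hxa⟩ := hV.exists_basicOpen_le ⟨f x, hV'⟩ hx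
  let b : Γ(X, f ⁻¹ᵁ V) := f.app V a
  have hb : X.basicOpen b = f ⁻¹ᵁ Y.basicOpen a := (f.preimage_basicOpen a).symm
  have hbV' : X.basicOpen b ≤ f ⁻¹ᵁ V' := hb.le.trans (f.preimage_mono haV')
  obtain ⟨n, c, hc'⟩ := (Ega1.QCohLoc.isLocAt_of_qcqs (CurvesB.UnitCoh.isCoh_structureModule X).1 hc hqs b).surj
    (ofFun (ores hbV' (val I r)))
  let c₀ : Γ(X, f ⁻¹ᵁ V) := c
  have h2 : ores (X.basicOpen_le b) c₀ = ores (X.basicOpen_le b) b ^ n * ores hbV' (val I r) := hc'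
  have hres : ∀ {U U' : X.Opens} (hU : U' ≤ U) (s : Γ(X, U)), X.basicOpen (ores hU s) = U' ⊓ X.basicOpen s :=
    fun hU s => Scheme.basicOpen_res _ _ _
  have hxb : x ∈ X.basicOpen b := by rw [hb]; exact hxa
  have key : X.basicOpen b ⊓ X.basicOpen c₀ = X.basicOpen b ⊓ X.basicOpen (val I r) := by
    rw [← hres (X.basicOpen_le b) c₀, h2, Scheme.basicOpen_mul]
    have e1 : X.basicOpen (ores (X.basicOpen_le b) b ^ n) = X.basicOpen b := by
      refine le_antisymm (X.basicOpen_le _) ?_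
      have := Scheme.basicOpen_of_isUnit X ((X.toRingedSpace.isUnit_res_basicOpen b).pow n)
      exact this.ge
    rw [e1, hres, ← inf_assoc, inf_idem]
  have hle : X.basicOpen (b * c₀) ≤ W := by
    rw [Scheme.basicOpen_mul, key]
    intro y hy
    by_contra hyW
    exact basicOpen_le_compl Z r y hy.2 hyW
  refine ⟨b * c₀, ?_, ?_⟩
  · rw [Scheme.basicOpen_mul, key]
    exact ⟨hxb, h1⟩
  · have h3 : X.basicOpen (b * c₀) = X.basicOpen (ores hWV (b * c₀)) := by
      rw [hres, inf_eq_right.mpr hle]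
    rw [h3]
    exact hW.basicOpen _

end K31.QAffHom
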