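import Groth.Agent.Ega2.H299.DomBasic
import Groth.Agent.Ega2.TwistInv
import Groth.Agent.Picfga.LineFam
import Groth.Agent.Picfga.ProjFrac

/-!
# The pullback of `O(n)` along `G(φ) ⟶ Proj 𝒜` when `𝒜` is generated in degree one
-/

set_option autoImplicit false
universe u
open CategoryTheory CategoryTheory.Limits AlgebraicGeometry TopologicalSpace Opposite HomogeneousLocalization

namespace K31.ConeTwist

open Groth.Agent.Fdesc.LocGen Groth.Agent.Ega2.H299.DomBasic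

/-- Sections over `D_+(f)` pulled back to `Spec (A_f)₀`. -/
theorem awayToSection_awayι {B : Type*} {σ : Type*} [CommRing B] [SetLike σ B]
    [AddSubgroupClass σ B] (𝒜 : ℕ → σ) [GradedRing 𝒜] {f : B} {m : ℕ} (f_deg : f ∈ 𝒜 m)
    (hm : 0 < m) :
    Proj.awayToSection 𝒜 f ≫ (Proj.awayι 𝒜 f f_deg hm).appLE (Proj.basicOpen 𝒜 f) ⊤
      (by rw [← Proj.opensRange_awayι 𝒜 f f_deg hm, Scheme.Hom.preimage_opensRange]) =
      (Scheme.ΓSpecIso (CommRingCat.of (Away 𝒜 f))).inv := by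
  let e := Proj.basicOpenIsoSpec 𝒜 f f_deg hm
  have h1 : e.hom.app ⊤ = _ := Proj.basicOpenToSpec_app_top 𝒜 f
  have h3 : (Proj.awayι 𝒜 f f_deg hm).appLE (Proj.basicOpen 𝒜 f) ⊤
      (by rw [← Proj.opensRange_awayι 𝒜 f f_deg hm, Scheme.Hom.preimage_opensRange]) =
      (Proj.basicOpen 𝒜 f).topIso.inv ≫ e.inv.appTop := by
    have h4 := Scheme.Hom.appLE_comp_appLE e.inv (Proj.basicOpen 𝒜 f).ι
      (Proj.basicOpen 𝒜 f) ⊤ ⊤ (by rw [Scheme.Opens.ι_preimage_self]) le_top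
    refine h4.symm.trans ?_
    congr 1
  have h5 : Proj.awayToSection 𝒜 f ≫ (Proj.basicOpen 𝒜 f).topIso.inv =
      (Scheme.ΓSpecIso (CommRingCat.of (Away 𝒜 f))).inv ≫ e.hom.appTop := by
    rw [Iso.eq_inv_comp]
    exact h1.symm
  rw [h3, ← Category.assoc, h5, Category.assoc, ← Scheme.Hom.comp_appTop, Iso.inv_hom_id]
  simp

variable {R A : Type u} [CommRing R] [CommRing A] [Algebra R A] {𝒜 : ℕ → Submodule R A} [GradedAlgebra 𝒜]
    {B : Type u} [CommRing B] [Algebra R B] {ℬ : ℕ → Submodule R B} [GradedAlgebra ℬ] {φ : 𝒜 →+*ᵍ ℬ}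
    {p : (PCone.dom φ : Scheme.{u}) ⟶ Proj 𝒜}
    (hp : ∀ (d : ℕ) (f : A) (hd : 0 < d) (hf : f ∈ 𝒜 d),
        PCone.chart φ hf hd ≫ p =
          Spec.map (CommRingCat.ofHom (HomogeneousLocalization.Away.map φ f)) ≫ Proj.awayι 𝒜 f hf hd)

/-- An open immersion induces isomorphisms on functions on its range. -/
theorem isIso_appLE {X Y : Scheme.{u}} (c : X ⟶ Y) [IsOpenImmersion c] {V : Y.Opens} {W : X.Opens} (hV : V ≤ c.opensRange)
    (h : c ⁻¹ᵁ V = W) : IsIso (c.appLE V W h.ge) := by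
  subst h
  rw [← Scheme.Hom.app_eq_appLE]
  exact c.isIso_app V hV

include hp in
/-- `p` on functions. -/
theorem appLE_awayToSection {d : ℕ} (hd : 0 < d) {g : A} (hg : g ∈ 𝒜 d) :
    Proj.awayToSection 𝒜 g ≫ p.appLE (Proj.basicOpen 𝒜 g) ((PCone.dom φ).ι ⁻¹ᵁ Proj.basicOpen ℬ (φ g))
      (preimage_basicOpen hp hd hg).ge =
      CommRingCat.ofHom (Away.map φ g) ≫ Proj.awayToSection ℬ (φ g) ≫ (PCone.dom φ).ι.app (Proj.basicOpen ℬ (φ g)) := by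
  have hr : (PCone.chart φ hg hd) ⁻¹ᵁ ((PCone.dom φ).ι ⁻¹ᵁ Proj.basicOpen ℬ (φ g)) = ⊤ := by
    rw [← opensRange_chart φ hg hd, Scheme.Hom.preimage_opensRange]
  have i1 : IsIso ((PCone.chart φ hg hd).appLE ((PCone.dom φ).ι ⁻¹ᵁ Proj.basicOpen ℬ (φ g)) ⊤ hr.ge) :=
    isIso_appLE _ (opensRange_chart φ hg hd).ge hr
  rw [← cancel_mono ((PCone.chart φ hg hd).appLE ((PCone.dom φ).ι ⁻¹ᵁ Proj.basicOpen ℬ (φ g)) ⊤ hr.ge)]
  have h1 := Scheme.Hom.appLE_comp_appLE (PCone.chart φ hg hd) p (Proj.basicOpen 𝒜 g)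
    ((PCone.dom φ).ι ⁻¹ᵁ Proj.basicOpen ℬ (φ g)) ⊤ (preimage_basicOpen hp hd hg).ge hr.ge
  have h2 := Scheme.Hom.appLE_comp_appLE (PCone.chart φ hg hd) (PCone.dom φ).ι (Proj.basicOpen ℬ (φ g))
    ((PCone.dom φ).ι ⁻¹ᵁ Proj.basicOpen ℬ (φ g)) ⊤ le_rfl hr.ge
  rw [← Scheme.Hom.app_eq_appLE] at h2
  simp only [Category.assoc]
  rw [h1, h2]
  simp only [hp d g hd hg, chart_ι φ hg hd]
  have h3 := Scheme.Hom.appLE_comp_appLE (Spec.map (CommRingCat.ofHom (HomogeneousLocalization.Away.map φ g)))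
    (Proj.awayι 𝒜 g hg hd) (Proj.basicOpen 𝒜 g) ⊤ ⊤
    (by rw [← Proj.opensRange_awayι 𝒜 g hg hd, Scheme.Hom.preimage_opensRange]) (by rw [Scheme.Hom.preimage_top])
  have h4 := awayToSection_awayι ℬ (f := φ g) (Graded.map_mem φ hg) hd
  have h5 := awayToSection_awayι 𝒜 hg hd
  have h6 : (Scheme.ΓSpecIso (CommRingCat.of (Away 𝒜 g))).inv ≫
      (Spec.map (CommRingCat.ofHom (HomogeneousLocalization.Away.map φ g))).appLE ⊤ ⊤ (by rw [Scheme.Hom.preimage_top]) =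
      CommRingCat.ofHom (Away.map φ g) ≫ (Scheme.ΓSpecIso (CommRingCat.of (Away ℬ (φ g)))).inv := by
    have := Scheme.ΓSpecIso_inv_naturality (CommRingCat.ofHom (HomogeneousLocalization.Away.map φ g))
    rw [this]
    simp [Scheme.Hom.appTop, Scheme.Hom.app_eq_appLE]
  rw [← h3, ← Category.assoc, h5, h6]
  exact congrArg (fun k => CommRingCat.ofHom (Away.map φ g) ≫ k) h4.symm

open Groth.Agent.Ega2.TwistBasic Groth.Agent.Ega2.TwistInv Twist Groth.Agent.Picfga.ProjGlue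

include hp in
/-- `p` on functions, over a smaller open. -/
theorem app_ores_awayToSection {d : ℕ} (hd : 0 < d) {g : A} (hg : g ∈ 𝒜 d) (z : Away 𝒜 g) (U : (Proj 𝒜).Opens)
    (hU : U ≤ Proj.basicOpen 𝒜 g) (hU' : (PCone.dom φ).ι ''ᵁ (p ⁻¹ᵁ U) ≤ Proj.basicOpen ℬ (φ g)) :
    (p.app U (ores hU (Proj.awayToSection 𝒜 g z)) : Γ(Proj ℬ, (PCone.dom φ).ι ''ᵁ (p ⁻¹ᵁ U))) =
      ores hU' (Proj.awayToSection ℬ (φ g) (Away.map φ g z)) := by
  have h1 := ConcreteCategory.congr_hom (appLE_awayToSection hp hd hg) z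
  have h2 : p ⁻¹ᵁ U ≤ (PCone.dom φ).ι ⁻¹ᵁ Proj.basicOpen ℬ (φ g) :=
    (p.preimage_mono hU).trans (preimage_basicOpen hp hd hg).le
  have h3 := congrArg (ores h2) h1
  refine Eq.trans ?_ (h3.trans ?_)
  · change (Proj.awayToSection 𝒜 g ≫ (Proj 𝒜).presheaf.map (homOfLE hU).op ≫ p.app U).hom z =
      (Proj.awayToSection 𝒜 g ≫ p.appLE _ _ _ ≫ (PCone.dom φ : Scheme.{u}).presheaf.map (homOfLE h2).op).hom z
    congr 2
    rw [Scheme.Hom.appLE_map, Scheme.Hom.app_eq_appLE, Scheme.Hom.map_appLE]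
  · rfl

theorem smulS_ge (f g : 𝒜 1) (n : ℤ) (hn : 0 ≤ n) (U : (Proj 𝒜).Opens) (hf : U ≤ Proj.basicOpen 𝒜 f.1)
    (hg : U ≤ Proj.basicOpen 𝒜 g.1) :
    powSec f n U hf = smulS n (ores hg (Proj.awayToSection 𝒜 g.1 (Away.mk 𝒜 g.2 n.toNat (f.1 ^ n.toNat)
      (SetLike.pow_mem_graded _ f.2))) : Γ(Proj 𝒜, U)) (powSec g n U hg) := by
  refine Subtype.ext (funext fun x => Subtype.ext ?_)
  refine Eq.trans ?_ (smulS_val n _ _ x).symm
  change Localization.mk (f.1 ^ n.toNat) ⟨f.1 ^ (-n).toNat, _⟩ =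
    Localization.mk (f.1 ^ n.toNat) ⟨g.1 ^ n.toNat, _⟩ * Localization.mk (g.1 ^ n.toNat) ⟨g.1 ^ (-n).toNat, _⟩
  rw [Localization.mk_mul, Localization.mk_eq_mk_iff, Localization.r_iff_exists]
  refine ⟨1, ?_⟩
  have h0 : (-n).toNat = 0 := by omega
  simp only [OneMemClass.coe_one, one_mul, Submonoid.coe_mul, h0, pow_zero]
  ring

theorem smulS_le (f g : 𝒜 1) (n : ℤ) (hn : n ≤ 0) (U : (Proj 𝒜).Opens) (hf : U ≤ Proj.basicOpen 𝒜 f.1)
    (hg : U ≤ Proj.basicOpen 𝒜 g.1) :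
    powSec f n U hf = smulS n (ores hf (Proj.awayToSection 𝒜 f.1 (Away.mk 𝒜 f.2 (-n).toNat (g.1 ^ (-n).toNat)
      (SetLike.pow_mem_graded _ g.2))) : Γ(Proj 𝒜, U)) (powSec g n U hg) := by
  refine Subtype.ext (funext fun x => Subtype.ext ?_)
  refine Eq.trans ?_ (smulS_val n _ _ x).symm
  change Localization.mk (f.1 ^ n.toNat) ⟨f.1 ^ (-n).toNat, _⟩ =
    Localization.mk (g.1 ^ (-n).toNat) ⟨f.1 ^ (-n).toNat, _⟩ * Localization.mk (g.1 ^ n.toNat) ⟨g.1 ^ (-n).toNat, _⟩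
  rw [Localization.mk_mul, Localization.mk_eq_mk_iff, Localization.r_iff_exists]
  refine ⟨1, ?_⟩
  have h0 : n.toNat = 0 := by omega
  simp only [OneMemClass.coe_one, one_mul, Submonoid.coe_mul, h0, pow_zero]
  ring

theorem image_preimage_le {g : A} (U : (Proj 𝒜).Opens)
    (hp : p ⁻¹ᵁ Proj.basicOpen 𝒜 g = (PCone.dom φ).ι ⁻¹ᵁ Proj.basicOpen ℬ (φ g))
    (hU : U ≤ Proj.basicOpen 𝒜 g) : (PCone.dom φ).ι ''ᵁ (p ⁻¹ᵁ U) ≤ Proj.basicOpen ℬ (φ g) := by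
  have h2 : p ⁻¹ᵁ U ≤ (PCone.dom φ).ι ⁻¹ᵁ Proj.basicOpen ℬ (φ g) :=
    (p.preimage_mono hU).trans hp.le
  exact ((PCone.dom φ).ι.image_mono h2).trans (by
    rw [Scheme.Hom.image_preimage_eq_opensRange_inf]; exact inf_le_right)

omit [GradedAlgebra 𝒜] in
theorem restrict_smul (n : ℤ) {U : (PCone.dom φ : Scheme.{u}).Opens} (a : Γ((PCone.dom φ : Scheme.{u}), U))
    (c : Γ(Proj ℬ, (PCone.dom φ).ι ''ᵁ U)) (h : a = c) (m : Γ(twist ℬ n, (PCone.dom φ).ι ''ᵁ U)) :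
    a • toRestrict (M := twist ℬ n) (PCone.dom φ).ι m = toRestrict (M := twist ℬ n) (PCone.dom φ).ι (c • m) := by
  rw [toRestrict_smul]
  congr 1
  rw [Scheme.Opens.ι_appIso]
  exact h

include hp in
theorem main (hgen : (HomogeneousIdeal.irrelevant 𝒜).toIdeal = Ideal.span (𝒜 1 : Set A)) (n : ℤ) :
    Nonempty ((Scheme.Modules.pullback p).obj (Twist.twist 𝒜 n) ≅ (Twist.twist ℬ n).restrict (PCone.dom φ).ι) := by
  let U : 𝒜 1 → (Proj 𝒜).Opens := fun f => Proj.basicOpen 𝒜 f.1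
  have him : ∀ (g : 𝒜 1) (W : (Proj 𝒜).Opens) (hW : W ≤ U g), (PCone.dom φ).ι ''ᵁ (p ⁻¹ᵁ W) ≤ Proj.basicOpen ℬ (φ g.1) :=
    fun g W hW => image_preimage_le W (preimage_basicOpen hp one_pos g.2) hW
  let φ₁ : 𝒜 1 → ℬ 1 := fun g => ⟨φ g.1, Graded.map_mem φ g.2⟩
  have hcov : ⨆ f : 𝒜 1, p ⁻¹ᵁ U f = ⊤ := by
    rw [← Scheme.Hom.preimage_iSup]
    have : ⨆ f : 𝒜 1, U f = ⊤ := by
      rw [eq_top_iff]
      intro x _
      obtain ⟨f, V, hx, hV⟩ := coveredByOne hgen x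
      exact Opens.mem_iSup.mpr ⟨f, hV x hx⟩
    rw [this, Scheme.Hom.preimage_top]
  obtain ⟨ψ, -⟩ := Groth.Agent.Picfga.LineFam.Fam.exists_iso_of_gens' (G := p) (L := twist 𝒜 n)
    (L' := (twist ℬ n).restrict (PCone.dom φ).ι) (U := U) hcov
    (e := fun f => powSec f n (U f) (fun x hx => hx)) (fun f => isGen_powSec f n (U f) (fun x hx => hx))
    (fun f => toRestrict (M := twist ℬ n) (PCone.dom φ).ι (powSec (φ₁ f) n ((PCone.dom φ).ι ''ᵁ (p ⁻¹ᵁ U f)) (him f _ le_rfl)))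
    (fun f => (isGen_toRestrict_iff _ _).mpr (isGen_powSec (φ₁ f) n _ (him f _ le_rfl)))
    (fun f g => by
      rcases le_total 0 n with hn | hn
      · refine ⟨ores inf_le_right (Proj.awayToSection 𝒜 g.1 (Away.mk 𝒜 g.2 n.toNat (f.1 ^ n.toNat)
          (SetLike.pow_mem_graded _ f.2))), smulS_ge f g n hn (U f ⊓ U g) inf_le_left inf_le_right, ?_⟩
        have h1 := app_ores_awayToSection hp one_pos g.2 (Away.mk 𝒜 g.2 n.toNat (f.1 ^ n.toNat)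
            (SetLike.pow_mem_graded _ f.2)) (U f ⊓ U g) inf_le_right (him g _ inf_le_right)
        have h2 := smulS_ge (φ₁ f) (φ₁ g) n hn ((PCone.dom φ).ι ''ᵁ (p ⁻¹ᵁ (U f ⊓ U g))) (him f _ inf_le_left)
            (him g _ inf_le_right)
        have h3 : Away.map φ g.1 (Away.mk 𝒜 g.2 n.toNat (f.1 ^ n.toNat) (SetLike.pow_mem_graded _ f.2)) =
            Away.mk ℬ (φ₁ g).2 n.toNat ((φ₁ f).1 ^ n.toNat) (SetLike.pow_mem_graded _ (φ₁ f).2) := by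
          rw [Away.map_mk]
          congr 1
          exact map_pow φ _ _
        rw [h3] at h1
        exact (congrArg (toRestrict (M := twist ℬ n) (PCone.dom φ).ι) h2).trans (restrict_smul n _ _ h1 _).symm
      · refine ⟨ores inf_le_left (Proj.awayToSection 𝒜 f.1 (Away.mk 𝒜 f.2 (-n).toNat (g.1 ^ (-n).toNat)
          (SetLike.pow_mem_graded _ g.2))), smulS_le f g n hn (U f ⊓ U g) inf_le_left inf_le_right, ?_⟩
        have h1 := app_ores_awayToSection hp one_pos f.2 (Away.mk 𝒜 f.2 (-n).toNat (g.1 ^ (-n).toNat)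
            (SetLike.pow_mem_graded _ g.2)) (U f ⊓ U g) inf_le_left (him f _ inf_le_left)
        have h2 := smulS_le (φ₁ f) (φ₁ g) n hn ((PCone.dom φ).ι ''ᵁ (p ⁻¹ᵁ (U f ⊓ U g))) (him f _ inf_le_left)
            (him g _ inf_le_right)
        have h3 : Away.map φ f.1 (Away.mk 𝒜 f.2 (-n).toNat (g.1 ^ (-n).toNat) (SetLike.pow_mem_graded _ g.2)) =
            Away.mk ℬ (φ₁ f).2 (-n).toNat ((φ₁ g).1 ^ (-n).toNat) (SetLike.pow_mem_graded _ (φ₁ g).2) := by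
          rw [Away.map_mk]
          congr 1
          exact map_pow φ _ _
        rw [h3] at h1
        exact (congrArg (toRestrict (M := twist ℬ n) (PCone.dom φ).ι) h2).trans (restrict_smul n _ _ h1 _).symm)
  exact ⟨ψ⟩

end K31.ConeTwist
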