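import Groth.Agent.Ega1.GlobGenPt
import Groth.Agent.Fdesc.LocGenTensor
import Groth.Agent.Dix.IdealModSec

/-!
# Morphisms `f` such that `f^* f_* F ⟶ F` is an epimorphism

* `counit_comp_eq_iff`;
* `exists_app_notMem_of_epi_counit`: sections of `f_* F` near `f x` see the fibre of `F` at `x`.
-/

set_option autoImplicit false
universe u
open CategoryTheory CategoryTheory.Limits AlgebraicGeometry Opposite TopologicalSpace

namespace K31.CounitEpi

open Groth.Agent Groth.Agent.Fdesc.LocGen Groth.Agent.Fdesc.Skyscraper Groth.Agent.Ega1.GlobGenPt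

variable {X Y : Scheme.{u}} (f : X ⟶ Y)

theorem counit_comp_eq_iff {F Z : X.Modules} (h₁ h₂ : F ⟶ Z) :
    (Scheme.Modules.pullbackPushforwardAdjunction f).counit.app F ≫ h₁ =
      (Scheme.Modules.pullbackPushforwardAdjunction f).counit.app F ≫ h₂ ↔
      ∀ V : Y.Opens, h₁.app (f ⁻¹ᵁ V) = h₂.app (f ⁻¹ᵁ V) := by
  have key : ∀ h : F ⟶ Z, (Scheme.Modules.pullbackPushforwardAdjunction f).counit.app F ≫ h =
      ((Scheme.Modules.pullbackPushforwardAdjunction f).homEquiv _ _).symm
        ((Scheme.Modules.pushforward f).map h) := by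
    intro h
    rw [Adjunction.homEquiv_counit]
    exact ((Scheme.Modules.pullbackPushforwardAdjunction f).counit.naturality h).symm
  rw [key, key, EmbeddingLike.apply_eq_iff_eq]
  constructor
  · intro h V
    exact congrArg (fun t => t.app V) h
  · intro h
    apply Scheme.Modules.hom_ext
    intro V
    exact h V

theorem exists_app_notMem_of_epi_counit {F N : X.Modules}
    (hF : Epi ((Scheme.Modules.pullbackPushforwardAdjunction f).counit.app F)) (j : F ⟶ N)
    {U : X.Opens} (i : Γ(F, U)) (hi : IsGen (j.app U i)) (x : X) (hx : x ∈ U) :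
    ∃ (V : Y.Opens) (hV : x ∈ f ⁻¹ᵁ V) (r : Γ(F, f ⁻¹ᵁ V)), N.presheaf.germ _ x hV (j.app _ r) ∉
      (IsLocalRing.maximalIdeal (X.presheaf.stalk x) •
        (⊤ : Submodule (X.presheaf.stalk x) (N.presheaf.stalk x))) := by
  by_contra hcon
  push Not at hcon
  let Q := N.presheaf.stalk x ⧸ (IsLocalRing.maximalIdeal (X.presheaf.stalk x) •
        (⊤ : Submodule (X.presheaf.stalk x) (N.presheaf.stalk x)))
  let q : N.presheaf.stalk x →ₗ[X.presheaf.stalk x] Q := Submodule.mkQ _
  let ψ : N ⟶ sky x Q := toSky q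
  have h0 : j ≫ ψ = 0 := by
    rw [← cancel_epi ((Scheme.Modules.pullbackPushforwardAdjunction f).counit.app F), counit_comp_eq_iff]
    intro V
    ext r
    change ψ.app (f ⁻¹ᵁ V) (j.app (f ⁻¹ᵁ V) r) = (0 : Γ(sky x Q, f ⁻¹ᵁ V))
    refine (funext fun h => ?_ : (_ : Sec x Q (f ⁻¹ᵁ V)) = _)
    refine (toSky_app_apply q (f ⁻¹ᵁ V) _ h).trans ?_
    exact (Submodule.Quotient.mk_eq_zero _).2 (hcon V h.down r)
  have h1 : ψ.app U (j.app U i) = (0 : Γ(sky x Q, U)) := congrArg (fun t => t.app U i) h0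
  have h3 : q (N.presheaf.germ U x hx (j.app U i)) = 0 :=
    (toSky_app_apply q U (j.app U i) ⟨hx⟩).symm.trans (congrFun (h1 : (_ : Sec x Q U) = _) ⟨hx⟩)
  exact germ_notMem_smul_top hi x hx ((Submodule.Quotient.mk_eq_zero _).1 h3)

/-- If the germ of a function is not in `m_x O_x` then `x` is in its basic open. -/
theorem mem_basicOpen {U : X.Opens} (r : Γ(X, U)) (x : X) (hx : x ∈ U)
    (h : (Coh.structureModule X).presheaf.germ U x hx (ofFun r) ∉
      (IsLocalRing.maximalIdeal (X.presheaf.stalk x) •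
        (⊤ : Submodule (X.presheaf.stalk x) ((Coh.structureModule X).presheaf.stalk x)))) :
    x ∈ X.basicOpen r := by
  by_contra hcon
  apply h
  rw [Scheme.mem_basicOpen X _ x hx] at hcon
  rw [ofFun_eq_smul, germ_smul]
  exact Submodule.smul_mem_smul ((IsLocalRing.mem_maximalIdeal _).2 hcon) Submodule.mem_top

end K31.CounitEpi
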