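import Groth.Agent.Ega2.H288.VeroneseAlg
import Mathlib.RingTheory.Ideal.Quotient.Operations

/-!
# Dehomogenization: `ℬ_(g) ≅ B / (g - 1)` for `g` of degree one

* `deh ℬ hg : B →+* ℬ_(g)`, `Σ b_i ↦ Σ b_i / g ^ i`; `deh_surjective`, `ker_deh`.
-/

set_option autoImplicit false
universe u

namespace K31.Deh

open HomogeneousLocalization

variable {R B : Type u} [CommRing R] [CommRing B] [Algebra R B] (ℬ : ℕ → Submodule R B) [GradedAlgebra ℬ]

/-- The map `a ↦ a / g ^ i` on the degree `i` part. -/
noncomputable def dehAux {g : B} (hg : g ∈ ℬ 1) (i : ℕ) : ℬ i →+ Away ℬ g where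
  toFun a := Away.mk ℬ hg i a.1 (by simp)
  map_zero' := by
    apply HomogeneousLocalization.val_injective
    rw [Away.val_mk, HomogeneousLocalization.val_zero]
    exact Localization.mk_zero _
  map_add' a b := by
    apply HomogeneousLocalization.val_injective
    rw [HomogeneousLocalization.val_add, Away.val_mk, Away.val_mk, Away.val_mk, Localization.add_mk_self]
    rfl

/-- Dehomogenization with respect to an element `g` of degree one: `Σ a_i ↦ Σ a_i / g ^ i`. -/
noncomputable def deh {g : B} (hg : g ∈ ℬ 1) : B →+* Away ℬ g :=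
  (DirectSum.toSemiring (dehAux ℬ hg)
    (by
      apply HomogeneousLocalization.val_injective
      change (Away.mk ℬ hg 0 (1 : B) _).val = _
      rw [Away.val_mk, HomogeneousLocalization.val_one, ← Localization.mk_one]
      congr 1
      exact Subtype.ext (pow_zero _))
    (fun {i j} a b => by
      apply HomogeneousLocalization.val_injective
      change (Away.mk ℬ hg (i + j) (a.1 * b.1) _).val = _
      rw [HomogeneousLocalization.val_mul]
      change _ = (Away.mk ℬ hg i a.1 _).val * (Away.mk ℬ hg j b.1 _).val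
      rw [Away.val_mk, Away.val_mk, Away.val_mk, Localization.mk_mul]
      congr 1
      ext
      simp [pow_add])).comp
  (DirectSum.decomposeRingEquiv ℬ).toRingHom

lemma deh_of_mem {g : B} (hg : g ∈ ℬ 1) {i : ℕ} {a : B} (ha : a ∈ ℬ i) :
    deh ℬ hg a = Away.mk ℬ hg i a (by simpa using ha) := by
  rw [deh, RingHom.comp_apply]
  have h : (DirectSum.decomposeRingEquiv ℬ).toRingHom a = DirectSum.of (fun i => ℬ i) i ⟨a, ha⟩ :=
    DirectSum.decompose_coe ℬ (⟨a, ha⟩ : ℬ i)
  rw [h, DirectSum.toSemiring_of]
  rfl

lemma deh_surjective {g : B} (hg : g ∈ ℬ 1) : Function.Surjective (deh ℬ hg) := by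
  intro z
  obtain ⟨n, a, ha, rfl⟩ := Away.mk_surjective ℬ hg z
  exact ⟨a, deh_of_mem ℬ hg (by simpa using ha)⟩

lemma deh_self {g : B} (hg : g ∈ ℬ 1) : deh ℬ hg g = 1 := by
  rw [deh_of_mem ℬ hg hg]
  apply HomogeneousLocalization.val_injective
  rw [Away.val_mk, HomogeneousLocalization.val_one, ← Localization.mk_one, Localization.mk_eq_mk_iff,
    Localization.r_iff_exists]
  exact ⟨1, by simp⟩

theorem ker_deh {g : B} (hg : g ∈ ℬ 1) : RingHom.ker (deh ℬ hg) = Ideal.span {g - 1} := by
  classical
  apply le_antisymm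
  · intro x hx
    set S := (DirectSum.decompose ℬ x).support with hS
    set n := S.sup id with hn
    have hle : ∀ i ∈ S, i ≤ n := fun i hi => Finset.le_sup (f := id) hi
    have hx0 : (deh ℬ hg x).val = 0 := by
      have : deh ℬ hg x = 0 := hx
      rw [this, HomogeneousLocalization.val_zero]
    set y : B := ∑ i ∈ S, ((DirectSum.decompose ℬ x i : ℬ i) : B) * g ^ (n - i) with hy
    have hy0 : algebraMap B (Localization.Away g) y = 0 := by
      have e1 : algebraMap B (Localization.Away g) y = algebraMap B (Localization.Away g) (g ^ n) * (deh ℬ hg x).val := by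
        conv_rhs => rw [← DirectSum.sum_support_decompose ℬ x, map_sum]
        have e2 : (∑ i ∈ S, deh ℬ hg ((DirectSum.decompose ℬ x i : ℬ i) : B)).val =
            ∑ i ∈ S, (deh ℬ hg ((DirectSum.decompose ℬ x i : ℬ i) : B)).val :=
          map_sum (algebraMap (Away ℬ g) (Localization.Away g)) _ _
        rw [e2, Finset.mul_sum, hy, map_sum]
        refine Finset.sum_congr rfl fun i hi => ?_
        rw [deh_of_mem ℬ hg (SetLike.coe_mem _), Away.val_mk, ← Localization.mk_one_eq_algebraMap,
          ← Localization.mk_one_eq_algebraMap, Localization.mk_mul, Localization.mk_eq_mk_iff,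
          Localization.r_iff_exists]
        refine ⟨1, ?_⟩
        simp only [OneMemClass.coe_one, one_mul]
        have : g ^ n = g ^ (n - i) * g ^ i := by rw [← pow_add, Nat.sub_add_cancel (hle i hi)]
        rw [this]
        ring
      rw [e1, hx0, mul_zero]
    obtain ⟨⟨_, N, rfl⟩, hN⟩ := (IsLocalization.map_eq_zero_iff (Submonoid.powers g) _ y).mp hy0
    have hN' : g ^ N * y = 0 := hN
    have hpow : ∀ k : ℕ, g ^ k - 1 ∈ Ideal.span {g - 1} := fun k =>
      Ideal.mem_span_singleton.mpr (sub_one_dvd_pow_sub_one g k)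
    have h1 : x - y ∈ Ideal.span {g - 1} := by
      have : x - y = ∑ i ∈ S, ((DirectSum.decompose ℬ x i : ℬ i) : B) * (1 - g ^ (n - i)) := by
        conv_lhs => rw [← DirectSum.sum_support_decompose ℬ x]
        rw [hy, ← Finset.sum_sub_distrib]
        exact Finset.sum_congr rfl fun i _ => by rw [mul_sub, mul_one]
      rw [this]
      refine sum_mem fun i _ => Ideal.mul_mem_left _ _ ?_
      have := neg_mem (hpow (n - i))
      rwa [neg_sub] at this
    have h2 : y ∈ Ideal.span {g - 1} := by
      have : y = -((g ^ N - 1) * y) := by rw [sub_mul, hN', zero_sub, neg_neg, one_mul]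
      rw [this]
      exact neg_mem (Ideal.mul_mem_right _ _ (hpow N))
    have := add_mem h1 h2
    rwa [sub_add_cancel] at this
  · rw [Ideal.span_le, Set.singleton_subset_iff]
    change deh ℬ hg (g - 1) = 0
    rw [map_sub, deh_self, map_one, sub_self]

end K31.Deh
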