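import Mathlib.RingTheory.GradedAlgebra.FiniteType
import Mathlib.RingTheory.GradedAlgebra.Homogeneous.Ideal
import Mathlib.RingTheory.Adjoin.Polynomial.Basic
import Mathlib.Algebra.Module.Submodule.Pointwise
import Mathlib.Algebra.Algebra.Operations

/-!
# Graded algebras of finite type over the degree zero part

Key lemmas: `exists_gens` (homogeneous generators of positive degree, as a surjection from a polynomial ring over
the degree zero part), `map_mem_of_monomials` (induction on monomials), `exists_shift` (EGA II 2.1.6 for modules),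
`exists_pow_degree_eq`, `degree_le_irrelevant_pow`.
-/

set_option autoImplicit false
universe u v w

open MvPolynomial

namespace K31.GrAlg

variable {R : Type u} {A : Type v} [CommRing R] [CommRing A] [Algebra R A] (𝒜 : ℕ → Submodule R A) [GradedAlgebra 𝒜]

theorem exists_gens [Algebra.FiniteType (𝒜 0) A] :
    ∃ (s : Finset A) (d : s → ℕ), (∀ i, 0 < d i) ∧ (∀ i : s, (i : A) ∈ 𝒜 (d i)) ∧
      Function.Surjective (MvPolynomial.aeval (fun i : s => (i : A)) : MvPolynomial s (𝒜 0) →ₐ[𝒜 0] A) := by
  classical
  obtain ⟨s, h₁, h₂⟩ := GradedAlgebra.exists_finset_adjoin_eq_top_and_homogeneous_ne_zero 𝒜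
  choose! n hn using h₂
  refine ⟨s, fun i => n i, fun i => Nat.pos_of_ne_zero (hn i i.2).1, fun i => (hn i i.2).2, ?_⟩
  rw [← AlgHom.range_eq_top, ← Algebra.adjoin_range_eq_range_aeval]
  simpa using h₁

variable {𝒜}

theorem aeval_monomial_mem {ι : Type w} [Fintype ι] {f : ι → A} {d : ι → ℕ} (hf : ∀ i, f i ∈ 𝒜 (d i))
    (α : ι →₀ ℕ) (c : 𝒜 0) :
    (MvPolynomial.aeval f (MvPolynomial.monomial α c) : A) ∈ 𝒜 (∑ i, α i * d i) := by
  classical
  rw [MvPolynomial.aeval_monomial, Finsupp.prod_fintype _ _ (by simp)]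
  have h0 : ((algebraMap (𝒜 0) A) c) ∈ 𝒜 0 := c.2
  have h1 : (∏ i, f i ^ α i) ∈ 𝒜 (∑ i, α i * d i) :=
    SetLike.prod_pow_mem_graded 𝒜 _ _ _ fun i _ => hf i
  simpa using SetLike.mul_mem_graded h0 h1

/-- If `α i ≥ k` then the monomial factors through `f i ^ k`. -/
theorem aeval_monomial_eq_mul {ι : Type w} {f : ι → A}
    (α : ι →₀ ℕ) (c : 𝒜 0) (i : ι) (k : ℕ) (h : k ≤ α i) :
    (MvPolynomial.aeval f (MvPolynomial.monomial α c) : A) =
      f i ^ k * MvPolynomial.aeval f (MvPolynomial.monomial (α - Finsupp.single i k) c) := by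
  classical
  have : (MvPolynomial.monomial α c : MvPolynomial ι (𝒜 0)) =
      MvPolynomial.X i ^ k * MvPolynomial.monomial (α - Finsupp.single i k) c := by
    rw [MvPolynomial.X_pow_eq_monomial, MvPolynomial.monomial_mul, one_mul,
      add_tsub_cancel_of_le (by simpa using h)]
  rw [this, map_mul, map_pow, MvPolynomial.aeval_X]

/-- The weighted degree of `α - single i k`. -/
theorem sum_sub_single {ι : Type w} [Fintype ι] [DecidableEq ι] (d : ι → ℕ) (α : ι →₀ ℕ) (i : ι) (k : ℕ) (h : k ≤ α i) :
    (∑ j, (α - Finsupp.single i k) j * d j) + k * d i = ∑ j, α j * d j := by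
  have e : α = (α - Finsupp.single i k) + Finsupp.single i k := by
    rw [tsub_add_cancel_of_le (by simpa using h)]
  conv_rhs => rw [e]
  simp only [Finsupp.coe_add, Pi.add_apply, add_mul, Finset.sum_add_distrib]
  congr 1
  rw [Finset.sum_eq_single i]
  · simp
  · intro j _ hj; simp [hj.symm]
  · simp

/-- Induction on monomials for additive maps. -/
theorem map_mem_of_monomials {ι : Type w} {f : ι → A}
    (hsurj : Function.Surjective (MvPolynomial.aeval f : MvPolynomial ι (𝒜 0) →ₐ[𝒜 0] A))
    {M : Type*} [AddCommGroup M] (T : A →+ M) (N : AddSubgroup M)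
    (h : ∀ (α : ι →₀ ℕ) (c : 𝒜 0), T (MvPolynomial.aeval f (MvPolynomial.monomial α c)) ∈ N) (a : A) : T a ∈ N := by
  obtain ⟨p, rfl⟩ := hsurj a
  induction p using MvPolynomial.induction_on' with
  | monomial u a => exact h u a
  | add p q hp hq => rw [map_add, map_add]; exact add_mem hp hq

/-- If the weighted degree is at least `card * b` and `b > 0`, some exponent times `d i` is at least `b`. -/
theorem exists_large {ι : Type w} [Fintype ι] (d : ι → ℕ) (α : ι →₀ ℕ) (b : ℕ)
    (h : Fintype.card ι * b < ∑ i, α i * d i) : ∃ i, b ≤ α i * d i := by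
  by_contra hcon
  push Not at hcon
  have : ∑ i, α i * d i ≤ ∑ _i : ι, b := Finset.sum_le_sum fun i _ => (hcon i).le
  simp at this
  omega

section Module

variable (𝒜)
variable {M : Type w} [AddCommGroup M] [Module R M] [Module A M] [IsScalarTower R A M] (ℳ : ℕ → Submodule R M)
  [DirectSum.Decomposition ℳ] [SetLike.GradedSMul 𝒜 ℳ]

/-- Homogeneous generators of a finite graded module. -/
theorem exists_homogeneous_gens [Module.Finite A M] :
    ∃ (t : Finset M) (e : M → ℕ), Submodule.span A (t : Set M) = ⊤ ∧ ∀ x ∈ t, x ∈ ℳ (e x) := by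
  classical
  obtain ⟨t, ht⟩ := (Module.finite_def (R := A) (M := M)).mp inferInstance
  let ι₀ := Σ (x : t), (DirectSum.decompose ℳ x.1).support
  let x (i : ι₀) : M := ((DirectSum.decompose ℳ) i.1 i.2).1
  have hx : ∀ y ∈ Finset.univ.image x, ∃ n, y ∈ ℳ n := by
    intro y hy
    obtain ⟨i, -, rfl⟩ := Finset.mem_image.mp hy
    exact ⟨_, (DirectSum.decompose ℳ i.1.1 i.2).2⟩
  choose! e he using hx
  refine ⟨Finset.univ.image x, e, ?_, he⟩
  rw [← top_le_iff, ← ht, Submodule.span_le]
  intro s hs
  rw [← DirectSum.sum_support_decompose ℳ s]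
  exact sum_mem fun n hn ↦ Submodule.subset_span (by simpa using ⟨⟨⟨s, hs⟩, n, hn⟩, rfl⟩)

/-- EGA II 2.1.6: a finitely generated graded module over a graded algebra of finite type over its degree zero part
is eventually `h`-periodic. -/
theorem exists_shift [Algebra.FiniteType (𝒜 0) A] [Module.Finite A M] :
    ∃ (n₁ h : ℕ), 0 < h ∧ ∀ n : ℕ, n₁ ≤ n → ℳ (n + h) = (𝒜 h : Submodule R A) • (ℳ n : Submodule R M) := by
  classical
  obtain ⟨s, d, hd, hf, hsurj⟩ := exists_gens 𝒜
  obtain ⟨t, e, ht, he⟩ := exists_homogeneous_gens (A := A) ℳ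
  set h := ∏ i, d i with hh
  have hpos : 0 < h := Finset.prod_pos fun i _ => hd i
  have hdvd : ∀ i, d i ∣ h := fun i => Finset.dvd_prod_of_mem d (Finset.mem_univ i)
  refine ⟨Fintype.card s * h + t.sup e, h, hpos, fun n hn => le_antisymm ?_ ?_⟩
  · -- every element of `M_{n+h}`
    have key : ∀ m : M, ∀ a : A, ((DirectSum.decompose ℳ (a • m) (n + h) : ℳ (n + h)) : M) ∈
        (𝒜 h : Submodule R A) • (ℳ n : Submodule R M) := by
      intro m
      have hm : m ∈ Submodule.span A (t : Set M) := by rw [ht]; trivial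
      induction hm using Submodule.span_induction with
      | zero => intro a; simp
      | add x y _ _ hx hy =>
        intro a
        rw [smul_add, DirectSum.decompose_add, DirectSum.add_apply, Submodule.coe_add]
        exact add_mem (hx a) (hy a)
      | smul b x _ hx => intro a; rw [smul_smul]; exact hx _
      | mem x hx =>
        have hxe := he x hx
        have hxle : e x ≤ t.sup e := Finset.le_sup hx
        let T : A →+ M :=
          { toFun := fun a => ((DirectSum.decompose ℳ (a • x) (n + h) : ℳ (n + h)) : M)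
            map_zero' := by simp
            map_add' := fun a b => by
              rw [add_smul, DirectSum.decompose_add, DirectSum.add_apply, Submodule.coe_add] }
        refine fun a => map_mem_of_monomials hsurj T
          ((𝒜 h : Submodule R A) • (ℳ n : Submodule R M)).toAddSubgroup (fun α c => ?_) a
        change ((DirectSum.decompose ℳ ((MvPolynomial.aeval (fun i : s => (i : A)) (MvPolynomial.monomial α c) : A) • x)
          (n + h) : ℳ (n + h)) : M) ∈ (𝒜 h : Submodule R A) • (ℳ n : Submodule R M)
        have hmem : (MvPolynomial.aeval (fun i : s => (i : A)) (MvPolynomial.monomial α c) : A) • x ∈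
            ℳ ((∑ i, α i * d i) + e x) := by
          have := SetLike.GradedSMul.smul_mem (A := 𝒜) (B := ℳ) (aeval_monomial_mem hf α c) hxe
          simpa using this
        by_cases hdeg : (∑ i, α i * d i) + e x = n + h
        · rw [← hdeg, DirectSum.decompose_of_mem_same ℳ hmem]
          obtain ⟨i, hi⟩ := exists_large d α h (by omega)
          have hk : h / d i ≤ α i := by
            have := Nat.div_le_div_right (c := d i) hi
            rwa [Nat.mul_div_cancel _ (hd i)] at this
          rw [aeval_monomial_eq_mul α c i (h / d i) hk, mul_smul]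
          have hs := sum_sub_single d α i (h / d i) hk
          rw [Nat.div_mul_cancel (hdvd i)] at hs
          refine Submodule.smul_mem_smul ?_ ?_
          · have := SetLike.pow_mem_graded (h / d i) (hf i)
            rwa [smul_eq_mul, Nat.div_mul_cancel (hdvd i)] at this
          · have := SetLike.GradedSMul.smul_mem (A := 𝒜) (B := ℳ)
              (aeval_monomial_mem hf (α - Finsupp.single i (h / d i)) c) hxe
            have e1 : (∑ j, (α - Finsupp.single i (h / d i)) j * d j) +ᵥ e x = n := by
              rw [vadd_eq_add]; omega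
            rwa [e1] at this
        · rw [DirectSum.decompose_of_mem_ne ℳ hmem hdeg]
          exact zero_mem _
    intro m hm
    have := key m 1
    rwa [one_smul, DirectSum.decompose_of_mem_same ℳ hm] at this
  · rw [Submodule.smul_le]
    intro a ha m hm
    have := SetLike.GradedSMul.smul_mem (A := 𝒜) (B := ℳ) ha hm
    rwa [vadd_eq_add, add_comm] at this

end Module

section Ring

variable (𝒜)

/-- EGA II 2.1.6 (v): some Veronese subring is generated in degree one. -/
theorem exists_pow_degree_eq [Algebra.FiniteType (𝒜 0) A] :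
    ∃ h : ℕ, 0 < h ∧ ∀ m : ℕ, 0 < m → 𝒜 (m * h) = (𝒜 h : Submodule R A) ^ m := by
  obtain ⟨n₁, h, hpos, H⟩ := exists_shift 𝒜 𝒜
  -- `S_{n + j h} = S_h^j S_n` for `n ≥ n₁`
  have H2 : ∀ (j n : ℕ), n₁ ≤ n → 𝒜 (n + j * h) = (𝒜 h : Submodule R A) ^ j * 𝒜 n := by
    intro j
    induction j with
    | zero => intro n _; simp
    | succ j ih =>
      intro n hn
      have e : n + (j + 1) * h = (n + j * h) + h := by ring
      rw [e, H (n + j * h) (by omega), ih n hn, smul_eq_mul, pow_succ', mul_assoc]
  have hle : ∀ j : ℕ, (𝒜 h : Submodule R A) ^ j ≤ 𝒜 (j * h) := by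
    intro j
    induction j with
    | zero =>
      simp only [pow_zero, zero_mul]
      rw [Submodule.one_le]
      exact SetLike.GradedOne.one_mem
    | succ j ih =>
      rw [pow_succ, Submodule.mul_le]
      intro a ha b hb
      have := SetLike.mul_mem_graded (ih ha) hb
      rwa [← Nat.succ_mul] at this
  set k := n₁ + 1 with hk
  refine ⟨k * h, Nat.mul_pos (by omega) hpos, fun m hm => ?_⟩
  have hkh : n₁ ≤ k * h := by nlinarith
  induction m, hm using Nat.le_induction with
  | base => simp
  | succ m hm ih =>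
    refine le_antisymm ?_ ?_
    · have e : (m + 1) * (k * h) = m * (k * h) + k * h := by ring
      rw [e, H2 k (m * (k * h)) (by nlinarith), pow_succ' (𝒜 (k * h)) m, ← ih]
      exact Submodule.smul_mono (hle k) le_rfl
    · rw [pow_succ', ← ih, Submodule.mul_le]
      intro a ha b hb
      have := SetLike.mul_mem_graded ha hb
      rwa [add_comm, ← Nat.succ_mul] at this

/-- EGA II 2.1.6 (vi): for every `n` the components of large degree lie in the `n`-th power of the irrelevant
ideal. -/
theorem degree_le_irrelevant_pow [Algebra.FiniteType (𝒜 0) A] (n : ℕ) :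
    ∃ m₀ : ℕ, ∀ m : ℕ, m₀ ≤ m → (𝒜 m : Set A) ⊆ ((HomogeneousIdeal.irrelevant 𝒜).toIdeal ^ n : Ideal A) := by
  classical
  obtain ⟨s, d, hd, hf, hsurj⟩ := exists_gens 𝒜
  refine ⟨n * (∑ i, d i) + 1, fun m hm a ha => ?_⟩
  have hirr : ∀ i : s, (i : A) ∈ (HomogeneousIdeal.irrelevant 𝒜).toIdeal := fun i =>
    HomogeneousIdeal.mem_irrelevant_of_mem 𝒜 (hd i) (hf i)
  let T : A →+ A :=
    { toFun := fun a => ((DirectSum.decompose 𝒜 a m : 𝒜 m) : A)
      map_zero' := by simp
      map_add' := fun a b => by
        rw [DirectSum.decompose_add, DirectSum.add_apply, Submodule.coe_add] }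
  have key : T a ∈ ((HomogeneousIdeal.irrelevant 𝒜).toIdeal ^ n).toAddSubgroup := by
    refine map_mem_of_monomials hsurj T _ (fun α c => ?_) a
    change ((DirectSum.decompose 𝒜 (MvPolynomial.aeval (fun i : s => (i : A)) (MvPolynomial.monomial α c) : A) m :
      𝒜 m) : A) ∈ (HomogeneousIdeal.irrelevant 𝒜).toIdeal ^ n
    have hmem := aeval_monomial_mem hf α c
    by_cases hdeg : (∑ i, α i * d i) = m
    · rw [← hdeg, DirectSum.decompose_of_mem_same 𝒜 hmem]
      have hsum : n ≤ ∑ i, α i := by
        by_contra hcon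
        push Not at hcon
        have h1 : ∑ i, α i * d i ≤ (∑ i, α i) * (∑ i, d i) := by
          rw [Finset.sum_mul]
          exact Finset.sum_le_sum fun i _ => Nat.mul_le_mul_left _ (Finset.single_le_sum (f := d) (fun _ _ => Nat.zero_le _) (Finset.mem_univ i))
        have h2 : (∑ i, α i) * (∑ i, d i) ≤ n * (∑ i, d i) := Nat.mul_le_mul_right _ hcon.le
        omega
      rw [MvPolynomial.aeval_monomial, Finsupp.prod_fintype _ _ (by simp)]
      refine Ideal.mul_mem_left _ _ (Ideal.pow_le_pow_right hsum ?_)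
      rw [← Finset.prod_pow_eq_pow_sum]
      exact Ideal.prod_mem_prod fun i _ => Ideal.pow_mem_pow (hirr i) _
    · rw [DirectSum.decompose_of_mem_ne 𝒜 hmem hdeg]
      exact zero_mem _
  have h3 : T a = a := DirectSum.decompose_of_mem_same 𝒜 ha
  rw [h3] at key
  exact key

end Ring

end K31.GrAlg
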