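import Groth.Agent.EGA2.K31.GrSect
import Groth.Agent.Ega1.QCohLoc

/-!
# Fractions as sections of the structure sheaf and of `M(n)~`; quasi-coherence of `M(n)~`

Gradings by any `SetLike` family (`GrMod.tilde`).  Contents of `FormalB.TwistFrac`, `Divis.ProjPic.exists_frac`,
`Ega2.H261.TildeQCoh` in this generality:
* `NV U s`: `s` vanishes nowhere on `U`; `ofrac`, `oval`: the functions `a / b` and the values of functions;
  `gfrac`, `gval`: the sections `m / s` of `M(n)~` and the values of sections;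
* `exists_ofrac_basicOpen`: a function on `D_+(f)` is `a / f ^ N`; `basicOpen_eq`: its locus of invertibility;
* `exists_gfrac_basicOpen`, `isLocAt_tilde`, `isQCoh_tilde`.
-/

set_option autoImplicit false
set_option linter.unusedSectionVars false

universe u

open CategoryTheory CategoryTheory.Limits AlgebraicGeometry TopologicalSpace Opposite TopCat

namespace K31.GrFracs

open K31.GrSect Groth.Agent Groth.Agent.Ega1.QCohLoc

variable {A σ : Type u} [CommRing A] [SetLike σ A] [AddSubgroupClass σ A] {𝒜 : ℕ → σ} [GradedRing 𝒜]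
variable {M τ : Type u} [AddCommGroup M] [Module A M] [SetLike τ M] [AddSubgroupClass τ M] {ℳ : ℕ → τ}

/-- `s` vanishes nowhere on the open `U` of `Proj 𝒜`. -/
def NV (U : (Proj 𝒜).Opens) (s : A) : Prop := ∀ x : ProjectiveSpectrum 𝒜, x ∈ U → s ∉ x.asHomogeneousIdeal

theorem NV.mono {U V : (Proj 𝒜).Opens} {s : A} (h : NV U s) (hV : V ≤ U) : NV V s := fun x hx => h x (hV hx)

theorem NV.mul {U : (Proj 𝒜).Opens} {s t : A} (hs : NV U s) (ht : NV U t) : NV U (s * t) :=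
  fun x hx => mul_notMem (hs x hx) (ht x hx)

theorem NV.pow {U : (Proj 𝒜).Opens} {s : A} (hs : NV U s) (k : ℕ) : NV U (s ^ k) :=
  fun x hx => pow_notMem (hs x hx) k

theorem NV.one (U : (Proj 𝒜).Opens) : NV U (1 : A) := fun x _ => one_notMem x

theorem NV.basicOpen (s : A) : NV (Proj.basicOpen 𝒜 s) s := fun _ hx => hx

theorem NV.of_le {U : (Proj 𝒜).Opens} {s : A} (h : U ≤ Proj.basicOpen 𝒜 s) : NV U s := fun _ hx => h hx

/-! ### Fractions as sections of the structure sheaf -/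

/-- The function `a / b` on `U`. -/
def ofrac (U : (Proj 𝒜).Opens) {i : ℕ} {a b : A} (ha : a ∈ 𝒜 i) (hb : b ∈ 𝒜 i) (hU : NV U b) :
    Γ(Proj 𝒜, U) :=
  show (ProjectiveSpectrum.Proj.structureSheaf 𝒜).1.obj (op U) from
  ⟨fun x => HomogeneousLocalization.mk ⟨i, ⟨a, ha⟩, ⟨b, hb⟩, hU x.1 x.2⟩,
    fun x => ⟨U, x.2, 𝟙 _, i, ⟨a, ha⟩, ⟨b, hb⟩, fun y => hU y.1 y.2, fun _ => rfl⟩⟩

/-- Value of a function at a point, in the localization. -/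
def oval {U : (Proj 𝒜).Opens} (c : Γ(Proj 𝒜, U)) (x : U) : GrTwist.Loc 𝒜 x.1 :=
  HomogeneousLocalization.val ((show (ProjectiveSpectrum.Proj.structureSheaf 𝒜).1.obj (op U) from c).1 x)

theorem oval_ofrac (U : (Proj 𝒜).Opens) {i : ℕ} {a b : A} (ha : a ∈ 𝒜 i) (hb : b ∈ 𝒜 i) (hU : NV U b) (x : U) :
    oval (ofrac U ha hb hU) x = Localization.mk a ⟨b, hU x.1 x.2⟩ := rfl

theorem oval_ext {U : (Proj 𝒜).Opens} {c d : Γ(Proj 𝒜, U)} (h : ∀ x : U, oval c x = oval d x) : c = d := by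
  apply Subtype.ext
  funext x
  exact HomogeneousLocalization.val_injective _ (h x)

theorem map_ofrac {U V : (Proj 𝒜).Opens} (h : V ≤ U) {i : ℕ} {a b : A} (ha : a ∈ 𝒜 i) (hb : b ∈ 𝒜 i)
    (hU : NV U b) : (Proj 𝒜).presheaf.map (homOfLE h).op (ofrac U ha hb hU) = ofrac V ha hb (hU.mono h) := rfl

theorem oval_one {U : (Proj 𝒜).Opens} (x : U) : oval (1 : Γ(Proj 𝒜, U)) x = 1 := HomogeneousLocalization.val_one

theorem oval_mul {U : (Proj 𝒜).Opens} (c d : Γ(Proj 𝒜, U)) (x : U) : oval (c * d) x = oval c x * oval d x :=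
  HomogeneousLocalization.val_mul _ _

theorem oval_pow {U : (Proj 𝒜).Opens} (c : Γ(Proj 𝒜, U)) (x : U) (n : ℕ) : oval (c ^ n) x = oval c x ^ n := by
  induction n with
  | zero => rw [pow_zero, pow_zero, oval_one]
  | succ l ih => rw [pow_succ, pow_succ, oval_mul, ih]

theorem oval_res {U V : (Proj 𝒜).Opens} (h : V ≤ U) (c : Γ(Proj 𝒜, U)) (x : V) :
    oval (resO h c) x = oval c ⟨x.1, h x.2⟩ := rfl

theorem pow_mem' {d : ℕ} {f : A} (hf : f ∈ 𝒜 d) (l : ℕ) : f ^ l ∈ 𝒜 (l * d) := by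
  simpa using SetLike.pow_mem_graded l hf

/-- A function on `D_+(f)` is of the form `a / f ^ N`. -/
theorem exists_ofrac_basicOpen {d : ℕ} (hd : 0 < d) {f : A} (hf : f ∈ 𝒜 d) {U : (Proj 𝒜).Opens}
    (hU : U = Proj.basicOpen 𝒜 f) (s : Γ(Proj 𝒜, U)) :
    ∃ (N : ℕ) (a : A) (ha : a ∈ 𝒜 (N * d)) (hV : NV U (f ^ N)), s = ofrac U ha (pow_mem' hf N) hV := by
  subst hU
  have hbij : Function.Bijective (Proj.basicOpenIsoAway 𝒜 f hf hd).hom :=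
    (ConcreteCategory.isIso_iff_bijective _).mp inferInstance
  obtain ⟨z, rfl⟩ := hbij.2 s
  obtain ⟨N, a, ha, rfl⟩ := HomogeneousLocalization.Away.mk_surjective 𝒜 hf z
  refine ⟨N, a, by simpa using ha, (NV.basicOpen f).pow N, oval_ext fun x => ?_⟩
  refine (ProjectiveSpectrum.Proj.awayToSection_apply 𝒜 f _ x).trans ?_
  rw [HomogeneousLocalization.Away.val_mk, Localization.mk_eq_mk', IsLocalization.map_mk', oval_ofrac,
    Localization.mk_eq_mk']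
  rfl

theorem isUnit_mk_iff (x : ProjectiveSpectrum 𝒜) (a s : A) (hs : s ∉ x.asHomogeneousIdeal.toIdeal) :
    IsUnit (Localization.mk a ⟨s, hs⟩ : GrTwist.Loc 𝒜 x) ↔ a ∉ x.asHomogeneousIdeal := by
  rw [Localization.mk_eq_mk']
  exact IsLocalization.AtPrime.isUnit_mk'_iff (GrTwist.Loc 𝒜 x) _ a ⟨s, hs⟩

theorem mem_basicOpen_iff {U : (Proj 𝒜).Opens} (r : Γ(Proj 𝒜, U)) (x : U) :
    x.1 ∈ (Proj 𝒜).basicOpen r ↔ IsUnit (oval r x) := by
  rw [Scheme.mem_basicOpen (X := Proj 𝒜) r x.1 x.2]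
  rw [oval, HomogeneousLocalization.isUnit_iff_isUnit_val]
  have h1 := Proj.stalkIso'_germ 𝒜 U x.1 x.2 r
  exact (MulEquiv.isUnit_map (Proj.stalkIso' 𝒜 x.1)).symm.trans (iff_of_eq (congrArg IsUnit h1))

theorem basicOpen_ofrac {i : ℕ} {U : (Proj 𝒜).Opens} {a b : A} (ha : a ∈ 𝒜 i) (hb : b ∈ 𝒜 i) (hU : NV U b) :
    (Proj 𝒜).basicOpen (ofrac U ha hb hU) = U ⊓ Proj.basicOpen 𝒜 a := by
  ext x
  constructor
  · intro hx
    have hxU := (Proj 𝒜).basicOpen_le _ hx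
    refine ⟨hxU, ?_⟩
    have := (mem_basicOpen_iff _ ⟨x, hxU⟩).1 hx
    rw [oval_ofrac, isUnit_mk_iff] at this
    exact this
  · rintro ⟨hxU, hx⟩
    refine (mem_basicOpen_iff _ ⟨x, hxU⟩).2 ?_
    rw [oval_ofrac, isUnit_mk_iff]
    exact hx

theorem iSup_basicOpen_pos :
    ⨆ i : (Σ m : ℕ, {f : A // f ∈ 𝒜 m ∧ 0 < m}), Proj.basicOpen 𝒜 i.2.1 = ⊤ := by
  rw [eq_top_iff]
  intro x _
  obtain ⟨d, h, hd, hh, hhx⟩ := exists_pos_notMem 𝒜 x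
  exact Opens.mem_iSup.2 ⟨⟨d, h, hh, hd⟩, hhx⟩

theorem exists_ofrac {U : (Proj 𝒜).Opens} (c : Γ(Proj 𝒜, U)) (x : ProjectiveSpectrum 𝒜) (hx : x ∈ U) :
    ∃ (V : (Proj 𝒜).Opens) (h : V ≤ U) (i : ℕ) (a b : A) (ha : a ∈ 𝒜 i) (hb : b ∈ 𝒜 i) (hV : NV V b), x ∈ V ∧
      (Proj 𝒜).presheaf.map (homOfLE h).op c = ofrac V ha hb hV := by
  obtain ⟨V, hxV, iV, j, ⟨a, ha⟩, ⟨b, hb⟩, nin, w⟩ :=
    (show (ProjectiveSpectrum.Proj.structureSheaf 𝒜).1.obj (op U) from c).2 ⟨x, hx⟩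
  refine ⟨V, iV.le, j, a, b, ha, hb, fun y hy => nin ⟨y, hy⟩, hxV, ?_⟩
  apply Subtype.ext
  funext y
  exact w y

/-! ### Fractions as sections of `M(n)~` -/

section Mod

variable [SetLike.GradedSMul 𝒜 ℳ]

/-- The section `m / s` of `M(n)~`. -/
noncomputable def gfrac (n : ℤ) (U : (Proj 𝒜).Opens) {j : ℕ} {s : A} (hs : s ∈ 𝒜 j) (hU : NV U s) {m : M}
    (hm : m ∈ zdeg ℳ (j + n)) : Γ(GrMod.tilde 𝒜 ℳ n, U) :=
  show GrMod.sect 𝒜 ℳ n (op U) from frac n U hs hU hm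

/-- Value of a section of `M(n)~` at a point. -/
noncomputable def gval {n : ℤ} {U : (Proj 𝒜).Opens} (t : Γ(GrMod.tilde 𝒜 ℳ n, U)) (x : U) :
    GrMod.LocMod 𝒜 (M := M) x.1 :=
  ((show GrMod.sect 𝒜 ℳ n (op U) from t).1 x).1

theorem gval_gfrac (n : ℤ) (U : (Proj 𝒜).Opens) {j : ℕ} {s : A} (hs : s ∈ 𝒜 j) (hU : NV U s) {m : M}
    (hm : m ∈ zdeg ℳ (j + n)) (x : U) :
    gval (gfrac n U hs hU hm) x = LocalizedModule.mk m ⟨s, hU x.1 x.2⟩ := rfl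

theorem gval_ext {n : ℤ} {U : (Proj 𝒜).Opens} {s t : Γ(GrMod.tilde 𝒜 ℳ n, U)} (h : ∀ x : U, gval s x = gval t x) :
    s = t := sect_ext h

theorem gval_add {n : ℤ} {U : (Proj 𝒜).Opens} (s t : Γ(GrMod.tilde 𝒜 ℳ n, U)) (x : U) :
    gval (s + t) x = gval s x + gval t x := rfl

theorem gval_zero {n : ℤ} {U : (Proj 𝒜).Opens} (x : U) :
    gval (0 : Γ(GrMod.tilde 𝒜 ℳ n, U)) x = 0 := rfl

theorem gval_smul {n : ℤ} {U : (Proj 𝒜).Opens} (c : Γ(Proj 𝒜, U)) (t : Γ(GrMod.tilde 𝒜 ℳ n, U)) (x : U) :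
    gval (c • t) x = oval c x • gval t x := rfl

theorem gval_res {n : ℤ} {U V : (Proj 𝒜).Opens} (h : V ≤ U) (t : Γ(GrMod.tilde 𝒜 ℳ n, U)) (x : V) :
    gval (res _ h t) x = gval t ⟨x.1, h x.2⟩ := rfl

theorem res_gfrac (n : ℤ) {U V : (Proj 𝒜).Opens} (h : V ≤ U) {j : ℕ} {s : A} (hs : s ∈ 𝒜 j) (hU : NV U s) {m : M}
    (hm : m ∈ zdeg ℳ (j + n)) : res _ h (gfrac n U hs hU hm) = gfrac n V hs (hU.mono h) hm := rfl

theorem exists_gfrac {n : ℤ} {U : (Proj 𝒜).Opens} (t : Γ(GrMod.tilde 𝒜 ℳ n, U)) (x : ProjectiveSpectrum 𝒜)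
    (hx : x ∈ U) :
    ∃ (V : (Proj 𝒜).Opens) (h : V ≤ U) (e : ℕ) (g : A) (m : M) (hg : g ∈ 𝒜 e) (hV : NV V g)
      (hm : m ∈ zdeg ℳ (e + n)), 0 < e ∧ x ∈ V ∧ V = Proj.basicOpen 𝒜 g ∧ res _ h t = gfrac n V hg hV hm := by
  obtain ⟨e, g, m, he, hg, hgx, hm, h⟩ :=
    exists_frac_at n (show GrMod.sect 𝒜 ℳ n (op U) from t) ⟨x, hx⟩
  refine ⟨Proj.basicOpen 𝒜 g, fun y hy => (h y hy).choose, e, g, m, hg, NV.basicOpen g, hm, he, hgx, rfl,
    gval_ext fun y => ?_⟩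
  obtain ⟨h1, h2⟩ := h y.1 y.2
  exact h2

theorem gfrac_congr {n : ℤ} {U : (Proj 𝒜).Opens} {j j' : ℕ} {s s' : A} {hs : s ∈ 𝒜 j} {hU : NV U s} {m m' : M}
    {hm : m ∈ zdeg ℳ (j + n)} {hs' : s' ∈ 𝒜 j'} {hU' : NV U s'} {hm' : m' ∈ zdeg ℳ (j' + n)}
    (h : s' • m = s • m') : gfrac n U hs hU hm = gfrac n U hs' hU' hm' :=
  gval_ext fun x => mk_eq_of_smul_eq 1 (one_notMem x.1) (by rw [one_smul, one_smul]; exact h)

theorem gfrac_add (n : ℤ) (U : (Proj 𝒜).Opens) {j : ℕ} {s : A} (hs : s ∈ 𝒜 j) (hU : NV U s) {m m' : M}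
    (hm : m ∈ zdeg ℳ (j + n)) (hm' : m' ∈ zdeg ℳ (j + n)) :
    gfrac n U hs hU hm + gfrac n U hs hU hm' = gfrac n U hs hU (add_mem hm hm') := by
  apply gval_ext
  intro x
  rw [gval_add, gval_gfrac, gval_gfrac, gval_gfrac, LocalizedModule.mk_add_mk]
  exact mk_eq_of_smul_eq (x := x.1) (hg := mul_notMem (hU x.1 x.2) (hU x.1 x.2)) (hg' := hU x.1 x.2) 1 (one_notMem x.1) (by
    simp only [Submonoid.smul_def, smul_add, smul_smul])

theorem ofrac_smul_gfrac (n : ℤ) (U : (Proj 𝒜).Opens) {i j : ℕ} {a b : A} (ha : a ∈ 𝒜 i) (hb : b ∈ 𝒜 i)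
    (hbU : NV U b) {s : A} (hs : s ∈ 𝒜 j) (hU : NV U s) {m : M} (hm : m ∈ zdeg ℳ (j + n)) :
    ofrac U ha hb hbU • gfrac n U hs hU hm =
      gfrac n U (SetLike.mul_mem_graded hb hs) (hbU.mul hU)
        (smul_mem_zdeg_of_eq 𝒜 ha hm (by push_cast; ring)) := by
  apply gval_ext
  intro x
  rw [gval_smul, oval_ofrac, gval_gfrac, gval_gfrac]
  exact LocalizedModule.mk_smul_mk _ _ _ _

end Mod

section QCoh

variable [SetLike.GradedSMul 𝒜 ℳ]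
variable [DirectSum.Decomposition ℳ]

/-- Every section of `M(n)~` over an open equal to `D_+(f)` is a fraction `m / f ^ k`. -/
theorem exists_gfrac_basicOpen (n : ℤ) {d : ℕ} (hd : 0 < d) {f : A} (hf : f ∈ 𝒜 d) {U : (Proj 𝒜).Opens}
    (hU : U = Proj.basicOpen 𝒜 f) (s : Γ(GrMod.tilde 𝒜 ℳ n, U)) :
    ∃ (k : ℕ) (m : M) (hm : m ∈ zdeg ℳ (((k * d : ℕ) : ℤ) + n)) (hV : NV U (f ^ k)),
      s = gfrac n U (pow_mem' hf k) hV hm := by
  subst hU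
  obtain ⟨k, m, hm, h⟩ := exists_frac_basicOpen n hd hf (show GrMod.sect 𝒜 ℳ n _ from s)
  exact ⟨k, m, hm, (NV.basicOpen f).pow k, gval_ext fun x => h x⟩

theorem isLocAt_tilde (n : ℤ) {d : ℕ} (hd : 0 < d) {f : A} (hf : f ∈ 𝒜 d)
    (r : Γ(Proj 𝒜, Proj.basicOpen 𝒜 f)) :
    Ega1.QCohLoc.IsLocAt (GrMod.tilde 𝒜 ℳ n) (Proj.basicOpen 𝒜 f) r where
  surj s := by
    obtain ⟨k, c, hc, hV0, rfl⟩ := exists_ofrac_basicOpen hd hf rfl r
    have hU : (Proj 𝒜).basicOpen (ofrac (Proj.basicOpen 𝒜 f) hc (pow_mem' hf k) hV0) = Proj.basicOpen 𝒜 (f * c) := by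
      rw [basicOpen_ofrac, Proj.basicOpen_mul]
    have hfc : f * c ∈ 𝒜 (d + k * d) := SetLike.mul_mem_graded hf hc
    obtain ⟨l, m, hm, hV, rfl⟩ := exists_gfrac_basicOpen n (by omega) hfc hU s
    have hm' : m ∈ zdeg ℳ ((((k + 1) * l * d : ℕ) : ℤ) + n) := by
      have e : (((k + 1) * l * d : ℕ) : ℤ) + n = ((l * (d + k * d) : ℕ) : ℤ) + n := by push_cast; ring
      rw [e]; exact hm
    refine ⟨l, gfrac n (Proj.basicOpen 𝒜 f) (pow_mem' hf ((k + 1) * l)) ((NV.basicOpen f).pow _) hm',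
      gval_ext fun x => ?_⟩
    have hxf : f ∉ x.1.asHomogeneousIdeal := (Proj 𝒜).basicOpen_le _ x.2
    refine Eq.trans ?_ (gval_smul _ _ x).symm
    rw [oval_pow, oval_res, oval_ofrac, gval_gfrac, Localization.mk_pow]
    refine Eq.trans ?_ (LocalizedModule.mk_smul_mk _ _ _ _).symm
    refine mk_eq_of_smul_eq 1 (one_notMem _) ?_
    simp only [SubmonoidClass.coe_pow, smul_smul]
    congr 1
    ring
  inj t ht := by
    obtain ⟨k, c, hc, hV0, rfl⟩ := exists_ofrac_basicOpen hd hf rfl r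
    have hU : (Proj 𝒜).basicOpen (ofrac (Proj.basicOpen 𝒜 f) hc (pow_mem' hf k) hV0) = Proj.basicOpen 𝒜 (f * c) := by
      rw [basicOpen_ofrac, Proj.basicOpen_mul]
    have hfc : f * c ∈ 𝒜 (d + k * d) := SetLike.mul_mem_graded hf hc
    obtain ⟨l, m, hm, hV, rfl⟩ := exists_gfrac_basicOpen n hd hf rfl t
    obtain ⟨N, hN⟩ := exists_pow_smul_eq_zero 𝒜 (ℳ := ℳ) (d := d + k * d) (by omega) hfc hm (by
      intro x hx
      have hx' := hx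
      rw [← Proj.mem_basicOpen, ← hU] at hx'
      have h1 : gval (gfrac n (Proj.basicOpen 𝒜 f) (pow_mem' hf l) hV hm)
          ⟨x, (Proj 𝒜).basicOpen_le _ hx'⟩ = 0 :=
        congrArg (fun z : Γ(GrMod.tilde 𝒜 ℳ n, (Proj 𝒜).basicOpen _) => gval z ⟨x, hx'⟩) ht
      rw [gval_gfrac, ← LocalizedModule.zero_mk (1 : x.asHomogeneousIdeal.toIdeal.primeCompl)] at h1
      obtain ⟨u, hu⟩ := LocalizedModule.mk_eq.mp h1
      refine ⟨u.1, u.2, ?_⟩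
      simpa [Submonoid.smul_def] using hu)
    refine ⟨N, gval_ext fun x => ?_⟩
    have hxf : f ∉ x.1.asHomogeneousIdeal := x.2
    refine (gval_smul _ _ x).trans ?_
    rw [oval_pow, oval_ofrac, gval_gfrac, Localization.mk_pow]
    refine (LocalizedModule.mk_smul_mk _ _ _ _).trans ?_
    rw [gval_zero, ← LocalizedModule.zero_mk (1 : x.1.asHomogeneousIdeal.toIdeal.primeCompl)]
    refine mk_eq_of_smul_eq (f ^ N) (pow_notMem hxf N) ?_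
    simp only [smul_zero, smul_smul]
    rw [one_mul, ← mul_pow]
    exact hN

/-- The modules `M(n)~` on `Proj` are quasi-coherent. -/
theorem isQCoh_tilde (n : ℤ) : Coh.IsQCoh (GrMod.tilde 𝒜 ℳ n) := by
  refine Ega1.QCohLoc.isQCoh_of_affine_cover _ (fun i : (Σ m : ℕ, {f : A // f ∈ 𝒜 m ∧ 0 < m}) =>
    Proj.basicOpen 𝒜 i.2.1) iSup_basicOpen_pos
    (fun i => Proj.isAffineOpen_basicOpen 𝒜 i.2.1 i.2.2.1 i.2.2.2)
    (fun i r => isLocAt_tilde n i.2.2.2 i.2.2.1 r)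


end QCoh

end K31.GrFracs
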