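import Groth.Agent.EGA2.K31.GrFracs

/-!
# The morphism `M(n)~ ⟶ N(n)~` attached to a map of graded modules

Gradings by any `SetLike` family (`GrMod.map`).
* `gval_map`, `map_gfrac`: values and fractions;
* `map_injective`: injective on sections if `u` is injective in large degrees;
* `map_locally_surjective`: locally surjective if `u` is surjective in large degrees;
* `map_exact`: `M → N → K` exact ⟹ sections of `N(n)~` killed by `v~` come locally from `M(n)~`;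
* `eq_zero_of_TN`: all sections of `M(n)~` vanish if `M_k = 0` for large `k`.
-/

set_option autoImplicit false
set_option linter.unusedSectionVars false
universe u

open CategoryTheory CategoryTheory.Limits AlgebraicGeometry TopologicalSpace Opposite TopCat
open scoped HomogeneousIdeal

noncomputable section

namespace K31.GrHom

open K31.GrSect K31.GrFracs Groth.Agent.Ega1.QCohLoc

variable {A σ : Type u} [CommRing A] [SetLike σ A] [AddSubgroupClass σ A] {𝒜 : ℕ → σ} [GradedRing 𝒜]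
variable {M τ : Type u} [AddCommGroup M] [Module A M] [SetLike τ M] [AddSubgroupClass τ M] {ℳ : ℕ → τ}
variable [SetLike.GradedSMul 𝒜 ℳ] [DirectSum.Decomposition ℳ]
variable {N τ' : Type u} [AddCommGroup N] [Module A N] [SetLike τ' N] [AddSubgroupClass τ' N] {𝒩 : ℕ → τ'}
  [SetLike.GradedSMul 𝒜 𝒩] [DirectSum.Decomposition 𝒩]
variable {K τ'' : Type u} [AddCommGroup K] [Module A K] [SetLike τ'' K] [AddSubgroupClass τ'' K] {𝒦 : ℕ → τ''}
  [SetLike.GradedSMul 𝒜 𝒦] [DirectSum.Decomposition 𝒦]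
variable (u : M →ₗ[A] N) (hu : ∀ (i : ℕ) (m : M), m ∈ ℳ i → u m ∈ 𝒩 i) (n : ℤ)
variable (v : N →ₗ[A] K) (hv : ∀ (i : ℕ) (m : N), m ∈ 𝒩 i → v m ∈ 𝒦 i)

theorem zero_mk' (x : ProjectiveSpectrum 𝒜) (s : x.asHomogeneousIdeal.toIdeal.primeCompl) :
    (LocalizedModule.mk 0 s : GrMod.LocMod 𝒜 (M := M) x) = 0 := LocalizedModule.zero_mk s

/-- A homogeneous element vanishing at a point is killed by a homogeneous element of large degree outside the point. -/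
theorem exists_smul_eq_zero (x : ProjectiveSpectrum 𝒜) {m : M} {k : ℤ} (hm : m ∈ zdeg ℳ k)
    {s : x.asHomogeneousIdeal.toIdeal.primeCompl}
    (h : (LocalizedModule.mk m s : GrMod.LocMod 𝒜 (M := M) x) = 0) (n₀ : ℕ) :
    ∃ (j : ℕ) (a : A), n₀ ≤ j ∧ a ∈ 𝒜 j ∧ a ∉ x.asHomogeneousIdeal ∧ a • m = 0 := by
  rw [← LocalizedModule.zero_mk (1 : x.asHomogeneousIdeal.toIdeal.primeCompl)] at h
  obtain ⟨w, hw⟩ := LocalizedModule.mk_eq.mp h
  have hw' : w.1 • m = 0 := by simpa [Submonoid.smul_def] using hw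
  obtain ⟨i, hi⟩ := exists_decompose_notMem 𝒜 x w.2
  obtain ⟨d, g, hd, hg, hgx⟩ := exists_pos_notMem 𝒜 x
  have h0 : (DirectSum.decompose 𝒜 w.1 i : A) • m = 0 := by
    rcases mem_zdeg_iff.mp hm with ⟨l, -, hl⟩ | h0
    · exact proj_smul_eq_zero 𝒜 hl hw' i
    · rw [h0, smul_zero]
  refine ⟨n₀ * d + i, g ^ n₀ * (DirectSum.decompose 𝒜 w.1 i : A), ?_,
    SetLike.mul_mem_graded (pow_mem' hg n₀) (SetLike.coe_mem _), mul_notMem (pow_notMem hgx n₀) hi, ?_⟩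
  · exact (Nat.le_mul_of_pos_right n₀ hd).trans (Nat.le_add_right _ _)
  · rw [mul_smul, h0, smul_zero]

/-- A value `m / s` vanishes if a homogeneous element outside the point kills `m`. -/
theorem mk_eq_zero_of_smul (x : ProjectiveSpectrum 𝒜) {m : M} {s : x.asHomogeneousIdeal.toIdeal.primeCompl}
    {a : A} (ha : a ∉ x.asHomogeneousIdeal) (h : a • m = 0) :
    (LocalizedModule.mk m s : GrMod.LocMod 𝒜 (M := M) x) = 0 := by
  rw [← LocalizedModule.zero_mk (1 : x.asHomogeneousIdeal.toIdeal.primeCompl), LocalizedModule.mk_eq]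
  refine ⟨⟨a, ha⟩, ?_⟩
  simp only [Submonoid.smul_def, smul_zero]
  rw [OneMemClass.coe_one, one_smul, h]

omit [AddSubgroupClass σ A] [GradedRing 𝒜] [SetLike.GradedSMul 𝒜 ℳ] [SetLike.GradedSMul 𝒜 𝒩]
  [DirectSum.Decomposition ℳ] [DirectSum.Decomposition 𝒩] in
include hu in
theorem map_mem_zdeg {k : ℤ} {m : M} (hm : m ∈ zdeg ℳ k) : u m ∈ zdeg 𝒩 k := by
  rcases mem_zdeg_iff.mp hm with ⟨i, hi, h⟩ | h
  · exact mem_zdeg_of_eq hi (hu i m h)
  · rw [h, map_zero]; exact zero_mem _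

include hu in
/-- Maps of graded modules commute with the projections to the graded pieces. -/
theorem map_decompose (m : M) (k : ℕ) : u (DirectSum.decompose ℳ m k : M) = (DirectSum.decompose 𝒩 (u m) k : N) := by
  classical
  conv_rhs => rw [← DirectSum.sum_support_decompose ℳ m, map_sum, DirectSum.decompose_sum]
  rw [DFinsupp.finsetSum_apply, AddSubmonoidClass.coe_finsetSum, Finset.sum_eq_single k]
  · exact (DirectSum.decompose_of_mem_same 𝒩 (hu k _ (SetLike.coe_mem _))).symm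
  · intro i _ hi
    exact DirectSum.decompose_of_mem_ne 𝒩 (hu i _ (SetLike.coe_mem _)) hi
  · intro hk
    rw [DFinsupp.notMem_support_iff.mp hk]
    simp

/-- The morphism attached to `u` on values. -/
theorem gval_map {U : (Proj 𝒜).Opens} (s : Γ(GrMod.tilde 𝒜 ℳ n, U)) (x : U) :
    gval ((GrMod.map 𝒜 u hu n).app U s) x = GrMod.locMap u x.1 (gval s x) := rfl

theorem map_gfrac (U : (Proj 𝒜).Opens) {j : ℕ} {s : A} (hs : s ∈ 𝒜 j) (hU : NV U s) {m : M}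
    (hm : m ∈ zdeg ℳ (j + n)) :
    (GrMod.map 𝒜 u hu n).app U (gfrac n U hs hU hm) = gfrac n U hs hU (map_mem_zdeg u hu hm) :=
  gval_ext fun x => GrMod.locMap_mk u x.1 m _

/-- A value of a section is a fraction. -/
theorem exists_gval {U : (Proj 𝒜).Opens} (s : Γ(GrMod.tilde 𝒜 ℳ n, U)) (x : U) :
    ∃ (e : ℕ) (g : A) (m : M) (_ : g ∈ 𝒜 e) (hgx : g ∉ x.1.asHomogeneousIdeal) (_ : m ∈ zdeg ℳ (e + n)), 0 < e ∧
      gval s x = LocalizedModule.mk m ⟨g, hgx⟩ := by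
  obtain ⟨V, hVU, e, g, m, hg, hV, hm, he, hxV, -, heq⟩ := exists_gfrac s x.1 x.2
  refine ⟨e, g, m, hg, hV _ hxV, hm, he, ?_⟩
  have h1 : gval (res _ hVU s) ⟨x.1, hxV⟩ = gval s x := rfl
  rw [← h1, heq, gval_gfrac]

/-- If `u` is injective in large degrees, the attached morphism is injective on sections. -/
theorem map_injective (hinj : ∃ n₀ : ℕ, ∀ (k : ℕ), n₀ ≤ k → ∀ m ∈ ℳ k, u m = 0 → m = 0)
    {U : (Proj 𝒜).Opens} (s : Γ(GrMod.tilde 𝒜 ℳ n, U)) (hs : (GrMod.map 𝒜 u hu n).app U s = 0) : s = 0 := by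
  obtain ⟨n₀, hinj⟩ := hinj
  refine gval_ext fun x => ?_
  obtain ⟨e, g, m, hg, hgx, hm, he, h1⟩ := exists_gval n s x
  have h2 : (0 : GrMod.LocMod 𝒜 (M := N) x.1) = LocalizedModule.mk (u m) ⟨g, hgx⟩ := by
    rw [← GrMod.locMap_mk u x.1 m, ← h1, ← gval_map u hu n s x, hs]
    rfl
  obtain ⟨j, a, hj, ha, hax, hz⟩ := exists_smul_eq_zero x.1 (map_mem_zdeg u hu hm) h2.symm (n₀ + n.natAbs)
  rw [h1, gval_zero]
  refine mk_eq_zero_of_smul x.1 hax ?_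
  have hm' : a • m ∈ zdeg ℳ (j + (e + n)) := smul_mem_zdeg 𝒜 ha hm
  rcases mem_zdeg_iff.mp hm' with ⟨i, hi, him⟩ | h0
  · refine hinj i (by omega) _ him ?_
    rw [map_smul, hz]
  · exact h0

/-- If `u` is surjective in large degrees, the attached morphism is locally surjective. -/
theorem map_locally_surjective (hsurj : ∃ n₀ : ℕ, ∀ (k : ℕ), n₀ ≤ k → ∀ m' ∈ 𝒩 k, ∃ m ∈ ℳ k, u m = m')
    {U : (Proj 𝒜).Opens} (t : Γ(GrMod.tilde 𝒜 𝒩 n, U)) (x : ProjectiveSpectrum 𝒜) (hx : x ∈ U) :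
    ∃ (V : (Proj 𝒜).Opens) (h : V ≤ U) (s : Γ(GrMod.tilde 𝒜 ℳ n, V)), x ∈ V ∧
      (GrMod.map 𝒜 u hu n).app V s = res _ h t := by
  obtain ⟨n₀, hsurj⟩ := hsurj
  obtain ⟨V, hVU, e, g, m', hg, hV, hm', he, hxV, -, heq⟩ := exists_gfrac t x hx
  have hm1 : g ^ (n₀ + n.natAbs) • m' ∈ zdeg 𝒩 (((n₀ + n.natAbs) * e : ℕ) + (e + n)) :=
    smul_mem_zdeg 𝒜 (pow_mem' hg _) hm'
  have hle : n₀ + n.natAbs ≤ (n₀ + n.natAbs) * e := Nat.le_mul_of_pos_right _ he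
  obtain ⟨m, hm, hmu⟩ : ∃ m ∈ zdeg ℳ (((n₀ + n.natAbs) * e : ℕ) + (e + n)), u m = g ^ (n₀ + n.natAbs) • m' := by
    rcases mem_zdeg_iff.mp hm1 with ⟨i, hi, him⟩ | h0
    · obtain ⟨m, hm, h⟩ := hsurj i (by omega) _ him
      exact ⟨m, mem_zdeg_of_eq hi hm, h⟩
    · exact ⟨0, zero_mem _, by rw [h0, map_zero]⟩
  have hdeg : ((((n₀ + n.natAbs) * e : ℕ) : ℤ) + (e + n)) = (((n₀ + n.natAbs) * e + e : ℕ) : ℤ) + n := by
    push_cast; ring
  rw [hdeg] at hm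
  refine ⟨V, hVU, gfrac n V (SetLike.mul_mem_graded (pow_mem' hg (n₀ + n.natAbs)) hg) ((hV.pow _).mul hV) hm, hxV, ?_⟩
  rw [map_gfrac, heq]
  refine gfrac_congr ?_
  rw [hmu, mul_comm, mul_smul]

/-- Exactness: sections killed by `v~` come locally from `M(n)~`. -/
theorem map_exact (hex : Function.Exact u v) {U : (Proj 𝒜).Opens} (t : Γ(GrMod.tilde 𝒜 𝒩 n, U))
    (ht : (GrMod.map 𝒜 v hv n).app U t = 0) (x : ProjectiveSpectrum 𝒜) (hx : x ∈ U) :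
    ∃ (V : (Proj 𝒜).Opens) (h : V ≤ U) (s : Γ(GrMod.tilde 𝒜 ℳ n, V)), x ∈ V ∧
      (GrMod.map 𝒜 u hu n).app V s = res _ h t := by
  obtain ⟨V, hVU, e, g, m, hg, hV, hm, he, hxV, hVg, heq⟩ := exists_gfrac t x hx
  have h1 : ∀ (y : ProjectiveSpectrum 𝒜) (hy : y ∈ V),
      (LocalizedModule.mk (v m) ⟨g, hV y hy⟩ : GrMod.LocMod 𝒜 (M := K) y) = 0 := by
    intro y hy
    have h2 : gval t ⟨y, hVU hy⟩ = LocalizedModule.mk m ⟨g, hV y hy⟩ := by
      have h3 : gval (res _ hVU t) ⟨y, hy⟩ = gval t ⟨y, hVU hy⟩ := rfl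
      rw [← h3, heq, gval_gfrac]
    rw [← GrMod.locMap_mk v y m, ← h2, ← gval_map v hv n t ⟨y, hVU hy⟩, ht]
    rfl
  obtain ⟨L, hL⟩ := exists_pow_smul_eq_zero 𝒜 (ℳ := 𝒦) he hg (map_mem_zdeg v hv hm) (by
    intro y hy
    have hyV : y ∈ V := by rw [hVg]; exact hy
    obtain ⟨j, a, -, -, hay, ha0⟩ := exists_smul_eq_zero y (map_mem_zdeg v hv hm) (h1 y hyV) 0
    exact ⟨a, hay, ha0⟩)
  have hm1 : g ^ L • m ∈ zdeg 𝒩 ((L * e : ℕ) + (e + n)) := smul_mem_zdeg 𝒜 (pow_mem' hg _) hm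
  obtain ⟨m₁, hm₁, hmu⟩ : ∃ m₁ ∈ zdeg ℳ ((L * e : ℕ) + (e + n)), u m₁ = g ^ L • m := by
    obtain ⟨m₂, hm₂⟩ := (hex (g ^ L • m)).1 (by rw [map_smul, hL])
    rcases mem_zdeg_iff.mp hm1 with ⟨i, hi, him⟩ | h0
    · refine ⟨_, mem_zdeg_of_eq hi (SetLike.coe_mem (DirectSum.decompose ℳ m₂ i)), ?_⟩
      rw [map_decompose u hu m₂ i, hm₂, DirectSum.decompose_of_mem_same 𝒩 him]
    · exact ⟨0, zero_mem _, by rw [h0, map_zero]⟩
  have hdeg : (((L * e : ℕ) : ℤ) + (e + n)) = ((L * e + e : ℕ) : ℤ) + n := by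
    push_cast; ring
  rw [hdeg] at hm₁
  refine ⟨V, hVU, gfrac n V (SetLike.mul_mem_graded (pow_mem' hg L) hg) ((hV.pow _).mul hV) hm₁, hxV, ?_⟩
  rw [map_gfrac, heq]
  refine gfrac_congr ?_
  rw [hmu, mul_comm, mul_smul]

/-- `M(n)~ = 0` if the pieces of `M` of large degree vanish. -/
theorem eq_zero_of_TN (hTN : ∃ n₀ : ℕ, ∀ (k : ℕ), n₀ ≤ k → ∀ m ∈ ℳ k, m = 0)
    {U : (Proj 𝒜).Opens} (s : Γ(GrMod.tilde 𝒜 ℳ n, U)) : s = 0 := by
  obtain ⟨n₀, hTN⟩ := hTN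
  refine gval_ext fun x => ?_
  obtain ⟨e, g, m, hg, hgx, hm, he, h1⟩ := exists_gval n s x
  rw [h1, gval_zero]
  refine mk_eq_zero_of_smul x.1 (pow_notMem hgx (n₀ + n.natAbs)) ?_
  have hm1 : g ^ (n₀ + n.natAbs) • m ∈ zdeg ℳ (((n₀ + n.natAbs) * e : ℕ) + (e + n)) :=
    smul_mem_zdeg 𝒜 (pow_mem' hg _) hm
  have hle : n₀ + n.natAbs ≤ (n₀ + n.natAbs) * e := Nat.le_mul_of_pos_right _ he
  rcases mem_zdeg_iff.mp hm1 with ⟨i, hi, him⟩ | h0
  · exact hTN i (by omega) _ him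
  · exact h0

end K31.GrHom
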