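import Mathlib.AlgebraicGeometry.ProjectiveSpectrum.Topology
import Mathlib.RingTheory.GradedAlgebra.Radical

/-!
# Vanishing loci in `Proj` and radicals
-/

set_option autoImplicit false
universe u v

namespace K31.GrPrime

variable {R : Type u} {A : Type v} [CommRing R] [CommRing A] [Algebra R A] (𝒜 : ℕ → Submodule R A) [GradedAlgebra 𝒜]

/-- An element of the irrelevant ideal lies in the radical of the homogeneous ideal `I` iff it lies in all relevant
homogeneous primes containing `I`. -/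
theorem mem_radical_iff {I : Ideal A} (hI : I.IsHomogeneous 𝒜) {a : A}
    (ha : a ∈ (HomogeneousIdeal.irrelevant 𝒜).toIdeal) :
    a ∈ I.radical ↔ ∀ x : ProjectiveSpectrum 𝒜, I ≤ x.asHomogeneousIdeal.toIdeal → a ∈ x.asHomogeneousIdeal := by
  constructor
  · intro h x hx
    have := Ideal.radical_mono hx h
    rw [x.isPrime.radical] at this
    exact this
  · intro h
    rw [hI.radical_eq, Ideal.mem_sInf]
    rintro J ⟨hJh, hIJ, hJp⟩
    by_cases hirr : HomogeneousIdeal.irrelevant 𝒜 ≤ ⟨J, hJh⟩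
    · exact hirr ha
    · exact h ⟨⟨J, hJh⟩, hJp, hirr⟩ hIJ

theorem irrelevant_inf_vanishingIdeal (E : Set A) :
    (HomogeneousIdeal.irrelevant 𝒜).toIdeal ⊓
        (ProjectiveSpectrum.vanishingIdeal (ProjectiveSpectrum.zeroLocus 𝒜 E)).toIdeal =
      (HomogeneousIdeal.irrelevant 𝒜).toIdeal ⊓ (Ideal.homogeneousHull 𝒜 (Ideal.span E)).toIdeal.radical := by
  ext a
  simp only [Ideal.mem_inf]
  refine and_congr_right fun ha => ?_
  rw [mem_radical_iff 𝒜 (HomogeneousIdeal.isHomogeneous _) ha]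
  have := ProjectiveSpectrum.mem_vanishingIdeal (ProjectiveSpectrum.zeroLocus 𝒜 E) a
  refine this.trans (forall_congr' fun x => ?_)
  rw [ProjectiveSpectrum.mem_zeroLocus]
  have e : (Ideal.homogeneousHull 𝒜 (Ideal.span E)).toIdeal ≤ x.asHomogeneousIdeal.toIdeal ↔
      E ⊆ x.asHomogeneousIdeal :=
    ((Ideal.homogeneousHull.gc 𝒜) (Ideal.span E) x.asHomogeneousIdeal).trans Ideal.span_le
  rw [e]

theorem zeroLocus_eq_univ_iff (E : Set A) (hE : E ⊆ (HomogeneousIdeal.irrelevant 𝒜).toIdeal) :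
    ProjectiveSpectrum.zeroLocus 𝒜 E = Set.univ ↔ ∀ e ∈ E, IsNilpotent e := by
  constructor
  · intro h e he
    have h1 := (mem_radical_iff 𝒜 (Ideal.IsHomogeneous.bot 𝒜) (hE he)).mpr fun x _ => by
      have : x ∈ ProjectiveSpectrum.zeroLocus 𝒜 E := by rw [h]; trivial
      exact this he
    obtain ⟨n, hn⟩ := h1; exact ⟨n, hn⟩
  · intro h
    rw [Set.eq_univ_iff_forall]
    intro x e he
    obtain ⟨n, hn⟩ := h e he
    exact x.isPrime.mem_of_pow_mem n (by rw [hn]; exact zero_mem _)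

end K31.GrPrime
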