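import Mathlib.RingTheory.GradedAlgebra.Homogeneous.Ideal
import Mathlib.RingTheory.GradedAlgebra.Radical

/-!
# Homogeneous primes are determined by their components of large degree
-/

set_option autoImplicit false
universe u v

namespace K31.GrTail

variable {R : Type u} {A : Type v} [CommRing R] [CommRing A] [Algebra R A] (𝒜 : ℕ → Submodule R A) [GradedAlgebra 𝒜]

/-- A homogeneous prime which does not contain the irrelevant ideal misses a homogeneous element of positive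
degree. -/
theorem exists_notMem {𝔭 : HomogeneousIdeal 𝒜} (h : ¬ HomogeneousIdeal.irrelevant 𝒜 ≤ 𝔭) :
    ∃ n : ℕ, 0 < n ∧ ∃ f ∈ 𝒜 n, f ∉ 𝔭.toIdeal := by
  by_contra hcon
  push Not at hcon
  refine h ?_
  rw [HomogeneousIdeal.irrelevant_le]
  intro i hi x hx
  exact hcon i hi x hx

theorem conditions_of_prime (n₀ : ℕ) (p : ℕ → AddSubgroup A) (𝔭 : HomogeneousIdeal 𝒜)
    (h1 : 𝔭.toIdeal.IsPrime) (h2 : ¬ HomogeneousIdeal.irrelevant 𝒜 ≤ 𝔭)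
    (h3 : ∀ n : ℕ, n₀ ≤ n → (𝔭.toIdeal : Set A) ∩ 𝒜 n = p n) :
    (∀ m n : ℕ, n₀ ≤ n → ∀ a ∈ 𝒜 m, ∀ b ∈ p n, a * b ∈ p (m + n)) ∧
      (∀ m n : ℕ, n₀ ≤ m → n₀ ≤ n → ∀ f ∈ 𝒜 m, ∀ g ∈ 𝒜 n, f * g ∈ p (m + n) → f ∈ p m ∨ g ∈ p n) ∧
      ∃ n : ℕ, n₀ ≤ n ∧ (p n : Set A) ≠ 𝒜 n := by
  have hmem : ∀ n, n₀ ≤ n → ∀ x, x ∈ p n ↔ x ∈ 𝔭.toIdeal ∧ x ∈ 𝒜 n := by
    intro n hn x
    have := Set.ext_iff.mp (h3 n hn) x
    exact this.symm
  refine ⟨fun m n hn a ha b hb => ?_, fun m n hm hn f hf g hg hfg => ?_, ?_⟩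
  · rw [hmem _ (by omega)]
    rw [hmem _ hn] at hb
    exact ⟨Ideal.mul_mem_left _ _ hb.1, SetLike.mul_mem_graded ha hb.2⟩
  · rw [hmem _ (by omega)] at hfg
    rw [hmem _ hm, hmem _ hn]
    exact (h1.mem_or_mem hfg.1).imp (fun h => ⟨h, hf⟩) (fun h => ⟨h, hg⟩)
  · obtain ⟨k, hk, f, hf, hfp⟩ := exists_notMem 𝒜 h2
    refine ⟨n₀ * k, by nlinarith, fun heq => ?_⟩
    have h4 : f ^ n₀ ∈ 𝒜 (n₀ * k) := by simpa using SetLike.pow_mem_graded n₀ hf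
    have h5 : f ^ n₀ ∈ p (n₀ * k) := by
      have : f ^ n₀ ∈ (p (n₀ * k) : Set A) := heq ▸ h4
      exact this
    rw [hmem _ (by nlinarith)] at h5
    exact hfp (h1.mem_of_pow_mem _ h5.1)

theorem le_of_tail (n₀ : ℕ) (𝔭 𝔮 : HomogeneousIdeal 𝒜) (h1 : 𝔮.toIdeal.IsPrime)
    (h2 : ¬ HomogeneousIdeal.irrelevant 𝒜 ≤ 𝔮)
    (h : ∀ n : ℕ, n₀ ≤ n → (𝔭.toIdeal : Set A) ∩ 𝒜 n = (𝔮.toIdeal : Set A) ∩ 𝒜 n) : 𝔭 ≤ 𝔮 := by
  obtain ⟨k, hk, f, hf, hfp⟩ := exists_notMem 𝒜 h2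
  intro a ha
  classical
  rw [← DirectSum.sum_support_decompose 𝒜 a]
  refine sum_mem fun m _ => ?_
  have ham : ((DirectSum.decompose 𝒜 a m : 𝒜 m) : A) ∈ 𝔭.toIdeal := 𝔭.isHomogeneous m ha
  have h4 : f ^ n₀ ∈ 𝒜 (n₀ * k) := by simpa using SetLike.pow_mem_graded n₀ hf
  have h5 : ((DirectSum.decompose 𝒜 a m : 𝒜 m) : A) * f ^ n₀ ∈ (𝔭.toIdeal : Set A) ∩ 𝒜 (m + n₀ * k) :=
    ⟨Ideal.mul_mem_right _ _ ham, SetLike.mul_mem_graded (SetLike.coe_mem _) h4⟩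
  rw [h _ (by nlinarith)] at h5
  rcases h1.mem_or_mem h5.1 with h6 | h6
  · exact h6
  · exact absurd (h1.mem_of_pow_mem _ h6) hfp

/-- The homogeneous ideal defined by the tail `p`. -/
def tailIdeal (n₀ : ℕ) (p : ℕ → AddSubgroup A)
    (h1 : ∀ m n : ℕ, n₀ ≤ n → ∀ a ∈ 𝒜 m, ∀ b ∈ p n, a * b ∈ p (m + n)) : Ideal A where
  carrier := {x | ∀ m n : ℕ, n₀ ≤ n → ∀ b ∈ 𝒜 n, ((DirectSum.decompose 𝒜 x m : 𝒜 m) : A) * b ∈ p (m + n)}
  zero_mem' := fun m n _ b _ => by simp [zero_mem]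
  add_mem' := fun {x y} hx hy m n hn b hb => by
    rw [DirectSum.decompose_add, DirectSum.add_apply, Submodule.coe_add, add_mul]
    exact add_mem (hx m n hn b hb) (hy m n hn b hb)
  smul_mem' := fun c x hx m n hn b hb => by
    classical
    have e : c • x = ∑ i ∈ (DirectSum.decompose 𝒜 c).support, ((DirectSum.decompose 𝒜 c i : 𝒜 i) : A) * x := by
      rw [← Finset.sum_mul, DirectSum.sum_support_decompose, smul_eq_mul]
    rw [e, DirectSum.decompose_sum, DFinsupp.finsetSum_apply, AddSubmonoidClass.coe_finsetSum, Finset.sum_mul]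
    refine sum_mem fun i _ => ?_
    by_cases him : i ≤ m
    · rw [DirectSum.coe_decompose_mul_of_left_mem_of_le 𝒜 (SetLike.coe_mem _) him, mul_assoc]
      have := h1 i ((m - i) + n) (by omega) _ (SetLike.coe_mem (DirectSum.decompose 𝒜 c i)) _ (hx (m - i) n hn b hb)
      rwa [show i + (m - i + n) = m + n by omega] at this
    · rw [DirectSum.coe_decompose_mul_of_left_mem_of_not_le 𝒜 (SetLike.coe_mem _) him, zero_mul]
      exact zero_mem _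

theorem exists_prime (n₀ : ℕ) (hn₀ : 0 < n₀) (p : ℕ → AddSubgroup A) (hp : ∀ n : ℕ, n₀ ≤ n → (p n : Set A) ⊆ 𝒜 n)
    (h1 : ∀ m n : ℕ, n₀ ≤ n → ∀ a ∈ 𝒜 m, ∀ b ∈ p n, a * b ∈ p (m + n))
    (h2 : ∀ m n : ℕ, n₀ ≤ m → n₀ ≤ n → ∀ f ∈ 𝒜 m, ∀ g ∈ 𝒜 n, f * g ∈ p (m + n) → f ∈ p m ∨ g ∈ p n)
    (h3 : ∃ n : ℕ, n₀ ≤ n ∧ (p n : Set A) ≠ 𝒜 n) :
    ∃ 𝔭 : HomogeneousIdeal 𝒜, 𝔭.toIdeal.IsPrime ∧ ¬ HomogeneousIdeal.irrelevant 𝒜 ≤ 𝔭 ∧
      ∀ n : ℕ, n₀ ≤ n → (𝔭.toIdeal : Set A) ∩ 𝒜 n = p n := by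
  classical
  obtain ⟨n₁, hn₁, hne⟩ := h3
  obtain ⟨b₁, hb₁, hb₁p⟩ : ∃ b ∈ 𝒜 n₁, b ∉ p n₁ := by
    by_contra hcon
    push Not at hcon
    exact hne (Set.Subset.antisymm (hp n₁ hn₁) fun b hb => hcon b hb)
  have hmem : ∀ (x : A), x ∈ tailIdeal 𝒜 n₀ p h1 ↔ ∀ m n : ℕ, n₀ ≤ n → ∀ b ∈ 𝒜 n,
    ((DirectSum.decompose 𝒜 x m : 𝒜 m) : A) * b ∈ p (m + n) := fun x => Iff.rfl
  -- membership for homogeneous elements
  have hmemh : ∀ (m : ℕ) (x : A), x ∈ 𝒜 m → (x ∈ tailIdeal 𝒜 n₀ p h1 ↔ ∀ n : ℕ, n₀ ≤ n → ∀ b ∈ 𝒜 n, x * b ∈ p (m + n)) := by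
    intro m x hx
    rw [hmem]
    constructor
    · intro h n hn b hb
      have := h m n hn b hb
      rwa [DirectSum.decompose_of_mem_same 𝒜 hx] at this
    · intro h m' n hn b hb
      by_cases hm : m = m'
      · subst hm
        rw [DirectSum.decompose_of_mem_same 𝒜 hx]
        exact h n hn b hb
      · rw [DirectSum.decompose_of_mem_ne 𝒜 hx hm, zero_mul]
        exact zero_mem _
  have hhom : (tailIdeal 𝒜 n₀ p h1).IsHomogeneous 𝒜 := by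
    intro i x hx
    rw [hmemh i _ (SetLike.coe_mem _)]
    intro n hn b hb
    exact hx i n hn b hb
  -- the tail
  have htail : ∀ n : ℕ, n₀ ≤ n → ∀ x ∈ 𝒜 n, (x ∈ tailIdeal 𝒜 n₀ p h1 ↔ x ∈ p n) := by
    intro n hn x hx
    rw [hmemh n x hx]
    constructor
    · intro h
      have := h n₁ hn₁ b₁ hb₁
      exact (h2 n n₁ hn hn₁ x hx b₁ hb₁ this).resolve_right hb₁p
    · intro h k hk b hb
      rw [mul_comm, add_comm]
      exact h1 k n hn b hb x h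
  refine ⟨⟨tailIdeal 𝒜 n₀ p h1, hhom⟩, ?_, ?_, ?_⟩
  · refine Ideal.IsHomogeneous.isPrime_of_homogeneous_mem_or_mem hhom ?_ ?_
    · intro htop
      apply hb₁p
      rw [← htail n₁ hn₁ b₁ hb₁]
      have h4 : b₁ ∈ (⊤ : Ideal A) := trivial
      rw [← htop] at h4
      exact h4
    · rintro x y ⟨k, hx⟩ ⟨m, hy⟩ hxy
      by_contra hcon
      push Not at hcon
      obtain ⟨hcx, hcy⟩ := hcon
      rw [hmemh k x hx] at hcx
      rw [hmemh m y hy] at hcy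
      push Not at hcx hcy
      obtain ⟨n, hn, b, hb, hxb⟩ := hcx
      obtain ⟨n', hn', b', hb', hyb⟩ := hcy
      rw [hmemh (k + m) (x * y) (SetLike.mul_mem_graded hx hy)] at hxy
      have h4 := hxy (n + n') (by omega) (b * b') (SetLike.mul_mem_graded hb hb')
      have h5 : (x * b) * (y * b') ∈ p ((k + n) + (m + n')) := by
        rw [show (k + n) + (m + n') = k + m + (n + n') by omega, show (x * b) * (y * b') = x * y * (b * b') by ring]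
        exact h4
      rcases h2 (k + n) (m + n') (by omega) (by omega) _ (SetLike.mul_mem_graded hx hb) _
        (SetLike.mul_mem_graded hy hb') h5 with h6 | h6
      · exact hxb h6
      · exact hyb h6
  · intro hirr
    apply hb₁p
    rw [← htail n₁ hn₁ b₁ hb₁]
    exact hirr (HomogeneousIdeal.mem_irrelevant_of_mem 𝒜 (by omega) hb₁)
  · intro n hn
    ext x
    constructor
    · rintro ⟨hx1, hx2⟩
      exact (htail n hn x hx2).mp hx1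
    · intro hx
      exact ⟨(htail n hn x (hp n hn hx)).mpr hx, hp n hn hx⟩

end K31.GrTail
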