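import Groth.Agent.EGA2.K31.GrAlg
import Mathlib.Data.Finsupp.Order
import Mathlib.Order.Interval.Finset.Defs
import Mathlib.Data.Finsupp.Interval

/-!
# Veronese subrings of graded algebras of finite type are of finite type
-/

set_option autoImplicit false
universe u v w

open MvPolynomial

namespace K31.GrVer

open K31.GrAlg

variable {R : Type u} {A : Type v} {B : Type w} [CommRing R] [CommRing A] [Algebra R A] (𝒜 : ℕ → Submodule R A)
  [GradedAlgebra 𝒜] [CommRing B] [Algebra R B] (ℬ : ℕ → Submodule R B) [GradedAlgebra ℬ]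

theorem finiteType_veronese [Algebra.FiniteType (𝒜 0) A]
    (d : ℕ) (φ : B →ₐ[R] A) (hφ : Function.Injective φ)
    (hdeg : ∀ n : ℕ, Submodule.map φ.toLinearMap (ℬ n) = 𝒜 (n * d)) :
    Algebra.FiniteType (ℬ 0) B := by
  classical
  obtain ⟨s, e, he, hf, hsurj⟩ := exists_gens 𝒜
  set f : s → A := fun i => (i : A) with hfdef
  let mon : (s →₀ ℕ) → A := fun α => MvPolynomial.aeval f (MvPolynomial.monomial α (1 : 𝒜 0))
  have hmon : ∀ α, mon α ∈ 𝒜 (∑ i, α i * e i) := fun α => aeval_monomial_mem hf α 1
  have hlift : ∀ (n : ℕ) (a : A), a ∈ 𝒜 (n * d) → ∃ b ∈ ℬ n, φ b = a := by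
    intro n a ha
    rw [← hdeg n] at ha
    obtain ⟨b, hb, rfl⟩ := ha
    exact ⟨b, hb, rfl⟩
  let G : Set B := {b | ∃ α : s →₀ ℕ, α ≤ Finsupp.equivFunOnFinite.symm (fun _ => d) ∧ φ b = mon α}
  have hGfin : G.Finite := by
    have h1 : (mon '' (Set.Iic (Finsupp.equivFunOnFinite.symm (fun _ : s => d)))).Finite :=
      (Set.finite_Iic _).image _
    refine Set.Finite.of_finite_image (f := φ) (h1.subset ?_) hφ.injOn
    rintro _ ⟨b, ⟨α, hα, hb⟩, rfl⟩
    exact ⟨α, hα, hb.symm⟩
  have claim1 : ∀ (N : ℕ) (α : s →₀ ℕ) (b : B), ∑ i, α i ≤ N → d ∣ ∑ i, α i * e i → φ b = mon α →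
      b ∈ Algebra.adjoin (ℬ 0) G := by
    intro N
    induction N with
    | zero =>
      intro α b hN hdvd hb
      refine Algebra.subset_adjoin ⟨α, fun i => ?_, hb⟩
      have : α i ≤ ∑ i, α i := Finset.single_le_sum (f := fun i => α i) (fun _ _ => Nat.zero_le _) (Finset.mem_univ i)
      simp only [Finsupp.coe_equivFunOnFinite_symm]
      omega
    | succ N ih =>
      intro α b hN hdvd hb
      by_cases hall : α ≤ Finsupp.equivFunOnFinite.symm (fun _ => d)
      · exact Algebra.subset_adjoin ⟨α, hall, hb⟩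
      · obtain ⟨i, hi⟩ : ∃ i, d < α i := by
          by_contra hcon
          push Not at hcon
          exact hall fun i => by simpa using hcon i
        rcases Nat.eq_zero_or_pos d with rfl | hd
        · -- then the weighted degree is zero, impossible
          have h0 := Nat.eq_zero_of_zero_dvd hdvd
          rw [Finset.sum_eq_zero_iff] at h0
          have := h0 i (Finset.mem_univ i)
          rw [Nat.mul_eq_zero] at this
          have := he i
          omega
        have hmul := aeval_monomial_eq_mul (𝒜 := 𝒜) (f := f) α 1 i d hi.le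
        have hs := sum_sub_single e α i d hi.le
        have hdeg' : d ∣ ∑ j, (α - Finsupp.single i d) j * e j := by
          rw [← hs] at hdvd
          exact (Nat.dvd_add_left (Dvd.intro _ rfl)).mp hdvd
        obtain ⟨k, hk⟩ := hdeg'
        obtain ⟨b₁, -, hb₁⟩ := hlift (e i) (f i ^ d) (by
          have := SetLike.pow_mem_graded d (hf i)
          rwa [smul_eq_mul, mul_comm] at this)
        obtain ⟨b₂, -, hb₂⟩ := hlift k (mon (α - Finsupp.single i d)) (by
          have := hmon (α - Finsupp.single i d)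
          rwa [hk, mul_comm] at this)
        have hbb : b = b₁ * b₂ := hφ (by rw [map_mul, hb₁, hb₂, hb]; exact hmul)
        rw [hbb]
        refine mul_mem (Algebra.subset_adjoin ⟨Finsupp.single i d, fun j => ?_, ?_⟩) (ih _ _ ?_ ⟨k, hk⟩ hb₂)
        · rw [Finsupp.single_apply]; simp only [Finsupp.coe_equivFunOnFinite_symm]; split_ifs <;> omega
        · rw [hb₁]
          change _ = (MvPolynomial.aeval f (MvPolynomial.monomial (Finsupp.single i d) (1 : 𝒜 0)) : A)
          rw [MvPolynomial.aeval_monomial, Finsupp.prod_single_index (by simp), map_one, one_mul]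
        · have := sum_sub_single (fun _ => 1) α i d hi.le
          simp only [mul_one] at this
          omega
  refine ⟨⟨hGfin.toFinset, ?_⟩⟩
  rw [Set.Finite.coe_toFinset, ← top_le_iff]
  have claim2 : ∀ (n : ℕ) (b : B), b ∈ ℬ n → b ∈ Algebra.adjoin (ℬ 0) G := by
    intro n b hb
    let T : A →+ A :=
      { toFun := fun a => ((DirectSum.decompose 𝒜 a (n * d) : 𝒜 (n * d)) : A)
        map_zero' := by simp
        map_add' := fun a b => by
          rw [DirectSum.decompose_add, DirectSum.add_apply, Submodule.coe_add] }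
    have key : T (φ b) ∈ ((Algebra.adjoin (ℬ 0) G).toSubring.toAddSubgroup.map φ.toRingHom.toAddMonoidHom) := by
      refine map_mem_of_monomials hsurj T _ (fun α c => ?_) (φ b)
      change ((DirectSum.decompose 𝒜 (MvPolynomial.aeval f (MvPolynomial.monomial α c) : A) (n * d) :
        𝒜 (n * d)) : A) ∈ _
      have hmem := aeval_monomial_mem hf α c
      by_cases hdeg1 : (∑ i, α i * e i) = n * d
      · rw [← hdeg1, DirectSum.decompose_of_mem_same 𝒜 hmem]
        obtain ⟨c', hc', hc''⟩ := hlift 0 c.1 (by rw [zero_mul]; exact c.2)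
        obtain ⟨b₂, -, hb₂⟩ := hlift n (mon α) (by rw [← hdeg1]; exact hmon α)
        refine ⟨c' * b₂, ?_, ?_⟩
        · exact (Algebra.adjoin (ℬ 0) G).mul_mem (Subalgebra.algebraMap_mem (Algebra.adjoin (ℬ 0) G) ⟨c', hc'⟩)
            (claim1 _ α b₂ le_rfl ⟨n, by rw [hdeg1, mul_comm]⟩ hb₂)
        · change φ (c' * b₂) = _
          rw [map_mul, hc'', hb₂]
          simp only [mon, MvPolynomial.aeval_monomial, map_one, one_mul]
          rfl
      · rw [DirectSum.decompose_of_mem_ne 𝒜 hmem hdeg1]
        exact zero_mem _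
    have h3 : T (φ b) = φ b :=
      DirectSum.decompose_of_mem_same 𝒜 (by rw [← hdeg n]; exact Submodule.mem_map_of_mem hb)
    rw [h3] at key
    obtain ⟨b', hb', hb''⟩ := key
    have : b' = b := hφ hb''
    exact this ▸ hb'
  intro b _
  rw [← DirectSum.sum_support_decompose ℬ b]
  exact sum_mem fun n _ => claim2 n _ (SetLike.coe_mem _)

end K31.GrVer
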