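import Groth.Agent.Ega2.H287.ProjSerre
import Groth.Agent.CohqB.SerTw
import Groth.Agent.S2352

/-!
# Epimorphisms `O^k ⟶ O(n)` and `O(-n)^k ⟶ F` on `Proj`
-/

set_option autoImplicit false
universe u
open CategoryTheory CategoryTheory.Limits AlgebraicGeometry Opposite TopologicalSpace

namespace K31.ProjEpi

open Groth.Agent Groth.Agent.Ega2 Groth.Agent.Fdesc.LocGen Groth.Agent.Ega2.TwistBasic

variable {R A : Type u} [CommRing R] [CommRing A] [Algebra R A] {𝒜 : ℕ → Submodule R A} [GradedAlgebra 𝒜]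
  {s : Finset A}

/-- The global section `f ^ n` of `O(n)`. -/
noncomputable def gpow {f : A} (hf : f ∈ 𝒜 1) (n : ℕ) (U : Opens (ProjectiveSpectrum.top 𝒜)) :
    Twist.sectN (𝒜 := 𝒜) (n : ℤ) (op U) :=
  fracSec (n : ℤ) (⟨f ^ n, by simpa using SetLike.pow_mem_graded n hf⟩ : 𝒜 n)
    (⟨1, SetLike.GradedOne.one_mem⟩ : 𝒜 0) (by simp) U
    (fun x _ h => (x : ProjectiveSpectrum 𝒜).isPrime.ne_top ((Ideal.eq_top_iff_one _).mpr h))

theorem isGen_gpow {f : A} (hf : f ∈ 𝒜 1) (n : ℕ) :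
    TensHom.IsGen (Twist.twist 𝒜 (n : ℤ)) (Proj.basicOpen 𝒜 f) (gpow hf n (Proj.basicOpen 𝒜 f)) :=
  isGen_fracSec _ _ _ _ _ _ fun x hx h => hx (x.isPrime.mem_of_pow_mem n h)

theorem exists_epi_twist (hs1 : ∀ f ∈ s, f ∈ 𝒜 1)
    (hs : (HomogeneousIdeal.irrelevant 𝒜).toIdeal = Ideal.span (s : Set A)) (n : ℕ) :
    ∃ (k : ℕ) (p : FlatMod.freeMod (Proj 𝒜) k ⟶ Twist.twist 𝒜 (n : ℤ)), Epi p := by
  classical
  have hcov := H287.ProjSerre.coveredBy_one hs1 hs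
  have hinv : PicF.IsInvertible (Twist.twist 𝒜 (n : ℤ)) :=
    Ega3B.ProjAmple.isInvertible_twist_mul hcov n n (by simp)
  have hq := GlobGenCrit.isInvertible_isQCoh hinv
  let σ := s.equivFin
  let e : s → Γ(Twist.twist 𝒜 (n : ℤ), ⊤) := fun f => gpow (𝒜 := 𝒜) (hs1 f.1 f.2) n ⊤
  refine ⟨s.card, Dcoh.FinLocFree.freeDesc fun k => e (σ.symm k), ⟨fun {Z} h₁ h₂ hh => ?_⟩⟩
  refine GlobGenCrit.hom_ext_of_span hq (fun f : s => Proj.basicOpen 𝒜 (f : A))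
    (fun f => Proj.isAffineOpen_basicOpen 𝒜 _ (hs1 f.1 f.2) one_pos) ?_ (Set.range e) (fun f => ?_) h₁ h₂ ?_
  · rw [eq_top_iff]
    intro x _
    obtain ⟨f, hf, hfx⟩ := H287.ProjSerre.exists_notMem hs x
    exact Opens.mem_iSup.mpr ⟨⟨f, hf⟩, hfx⟩
  · rw [eq_top_iff]
    intro t _
    have h1 := isGen_gpow (hs1 f.1 f.2) n (Proj.basicOpen 𝒜 (f : A)) le_rfl
    obtain ⟨c, hc⟩ := h1.2 t
    rw [← hc]
    refine Submodule.smul_mem _ _ (Submodule.subset_span ⟨e f, ⟨f, rfl⟩, ?_⟩)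
    rfl
  · rintro _ ⟨f, rfl⟩
    have h3 := congrArg (fun φ => Dcoh.FinLocFree.freeSec φ (σ f)) hh
    simp only [Dcoh.FinLocFree.freeSec_comp, Dcoh.FinLocFree.freeSec_freeDesc, Equiv.symm_apply_apply] at h3
    exact h3

attribute [local instance] Abelian.hasFiniteBiproducts

theorem epi_tw_map {X : Scheme.{u}} {N : X.Modules} (hN : PicF.IsInvertible N) {F G : X.Modules} (p : F ⟶ G) [Epi p] :
    Epi ((CohqB.SerTw.tw N).map p) := by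
  have hS : (ShortComplex.mk (kernel.ι p) p (kernel.condition p)).ShortExact :=
    { exact := ShortComplex.exact_kernel p }
  exact (CohqB.SerTw.shortExact_tw hN hS).epi_g

theorem exists_epi_sum (hs1 : ∀ f ∈ s, f ∈ 𝒜 1)
    (hs : (HomogeneousIdeal.irrelevant 𝒜).toIdeal = Ideal.span (s : Set A))
    (F : (Proj 𝒜).Modules) (hF : Coh.IsCoh F) :
    ∃ n₀ : ℕ, ∀ n : ℕ, n₀ ≤ n →
      ∃ (k : ℕ) (p : (∐ fun _ : Fin k => Twist.twist 𝒜 (-(n : ℤ))) ⟶ F), Epi p := by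
  obtain ⟨n₀, h⟩ := H287.ProjSerre.exists_epi_freeMod_twistBy hs1 hs F hF
  refine ⟨n₀, fun n hn => ?_⟩
  obtain ⟨k, p, hp⟩ := h n hn
  have hcov := H287.ProjSerre.coveredBy_one hs1 hs
  set N := Twist.twist 𝒜 (-(n : ℤ)) with hN
  have hinv : PicF.IsInvertible N :=
    Ega3B.ProjAmple.isInvertible_twist_mul hcov (-(n : ℤ)) _ (by simp)
  have hiso := Ega3B.ProjAmple.isIso_mulHom_of_coveredBy hcov (add_neg_cancel (n : ℤ)) (-(n : ℤ)) (by simp)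
  obtain ⟨e0⟩ := Ega2.TwistInv.nonempty_unit_iso 𝒜
  -- `(F ⊗ O(n)) ⊗ O(-n) ≅ F`
  let e₁ : (CohqB.SerTw.tw N).obj (Twist.twistBy 𝒜 F (n : ℤ)) ≅ F :=
    Ega2.Tens.assoc F (Twist.twist 𝒜 (n : ℤ)) N ≪≫
      Ega2.Tens.mapTIso (Iso.refl F) (@asIso _ _ _ _ (TwistMul.mulHom 𝒜 (add_neg_cancel (n : ℤ))) hiso ≪≫ e0.symm) ≪≫
      Ega2.Tens.runit F
  -- `O^k ⊗ O(-n) ≅ O(-n)^k`
  let e₂ : (CohqB.SerTw.tw N).obj (FlatMod.freeMod (Proj 𝒜) k) ≅ (∐ fun _ : Fin k => N) :=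
    (CohqB.SerTw.tw N).mapIso (biproduct.isoCoproduct fun _ : Fin k => Coh.structureModule (Proj 𝒜)).symm ≪≫
      (CohqB.SerTw.tw N).mapBiproduct _ ≪≫
      biproduct.mapIso (fun _ => Ega2.Tens.swap (Coh.structureModule (Proj 𝒜)) N ≪≫ Ega2.Tens.runit N) ≪≫
      biproduct.isoCoproduct fun _ : Fin k => N
  have := epi_tw_map hinv p
  exact ⟨k, e₂.inv ≫ (CohqB.SerTw.tw N).map p ≫ e₁.hom, inferInstance⟩

end K31.ProjEpi
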