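import Groth.Agent.Sga5.ProjSurj
import Mathlib.AlgebraicGeometry.Morphisms.Affine
import Mathlib.AlgebraicGeometry.Morphisms.IsIso

/-!
# A graded homomorphism which is bijective in positive degrees induces an isomorphism on `Proj`
-/

set_option autoImplicit false
open CategoryTheory AlgebraicGeometry HomogeneousLocalization Graded
universe u

namespace K31.ProjIso

open Groth.Agent.Sga5.ProjSurj

variable {A B σ τ : Type u} [CommRing A] [SetLike σ A] [AddSubgroupClass σ A]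
  [CommRing B] [SetLike τ B] [AddSubgroupClass τ B]
  {𝒜 : ℕ → σ} {ℬ : ℕ → τ} [GradedRing 𝒜] [GradedRing ℬ]
  {f : 𝒜 →+*ᵍ ℬ} (hf : HomogeneousIdeal.irrelevant ℬ ≤ (HomogeneousIdeal.irrelevant 𝒜).map f)

theorem away_map_bijective (hbij : ∀ n : ℕ, 0 < n → Set.BijOn f (𝒜 n) (ℬ n)) {d : ℕ} (hd0 : 0 < d) (s : A) (hd : s ∈ 𝒜 d) :
    Function.Bijective (Away.map f s : Away 𝒜 s →+* Away ℬ (f s)) := by
  constructor
  · rw [injective_iff_map_eq_zero]
    intro z hz
    obtain ⟨n, a, ha, rfl⟩ := HomogeneousLocalization.Away.mk_surjective 𝒜 hd z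
    rw [Away.map_mk] at hz
    have h1 := congrArg HomogeneousLocalization.val hz
    rw [Away.val_mk, HomogeneousLocalization.val_zero, Localization.mk_eq_mk', IsLocalization.mk'_eq_zero_iff] at h1
    obtain ⟨⟨_, m, rfl⟩, hm⟩ := h1
    have hm' : f s ^ m * f a = 0 := hm
    have h2 : s ^ (m + 1) * a ∈ 𝒜 ((m + 1) • d + n • d) := SetLike.mul_mem_graded (SetLike.pow_mem_graded _ hd) ha
    have hpos : 0 < (m + 1) • d + n • d := by
      have : 0 < (m + 1) • d := by rw [smul_eq_mul]; positivity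
      omega
    have h3 : s ^ (m + 1) * a = 0 := by
      refine (hbij _ hpos).injOn h2 (zero_mem (𝒜 ((m + 1) • d + n • d))) ?_
      rw [map_mul, map_pow, pow_succ', mul_assoc, hm', mul_zero, map_zero]
    apply HomogeneousLocalization.val_injective
    rw [Away.val_mk, HomogeneousLocalization.val_zero, Localization.mk_eq_mk', IsLocalization.mk'_eq_zero_iff]
    exact ⟨⟨s ^ (m + 1), ⟨m + 1, rfl⟩⟩, h3⟩
  · intro z
    obtain ⟨n, b, hb, rfl⟩ := HomogeneousLocalization.Away.mk_surjective ℬ (f.2 hd) z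
    have h1 : b * f s ∈ ℬ ((n + 1) • d) := by
      have := SetLike.mul_mem_graded hb (f.2 hd)
      rwa [← succ_nsmul] at this
    obtain ⟨a, ha, hab⟩ := (hbij ((n + 1) • d) (by rw [smul_eq_mul]; positivity)).surjOn h1
    refine ⟨Away.mk 𝒜 hd (n + 1) a ha, ?_⟩
    rw [Away.map_mk]
    apply HomogeneousLocalization.val_injective
    rw [Away.val_mk, Away.val_mk, Localization.mk_eq_mk_iff, Localization.r_iff_exists]
    refine ⟨1, ?_⟩
    simp only [OneMemClass.coe_one, one_mul]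
    change f s ^ n * f a = f s ^ (n + 1) * b
    rw [hab, pow_succ]
    ring

theorem appLE_bijective {d : ℕ} (hd0 : 0 < d) (s : A) (hd : s ∈ 𝒜 d)
    (h3 : Function.Bijective (Away.map f s : Away 𝒜 s →+* Away ℬ (f s))) :
    Function.Bijective (Scheme.Hom.appLE (Proj.map f hf) (Proj.basicOpen 𝒜 s)
      (Proj.basicOpen ℬ (f s)) (by rfl)) := by
  have h1 := Proj.awayToSection_comp_appLE f hf hd
  have i1 : IsIso (Proj.awayToSection 𝒜 s) := isIso_awayToSection hd0 s hd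
  have i2 : IsIso (Proj.awayToSection ℬ (f s)) := isIso_awayToSection hd0 (f s) (f.2 hd)
  have i3 : IsIso (CommRingCat.ofHom (Away.map f s : Away 𝒜 s →+* Away ℬ (f s))) := by
    rw [ConcreteCategory.isIso_iff_bijective]
    exact h3
  have i4 : IsIso (Scheme.Hom.appLE (Proj.map f hf) (Proj.basicOpen 𝒜 s) (Proj.basicOpen ℬ (f s)) (by rfl)) := by
    have : IsIso (Proj.awayToSection 𝒜 s ≫
      Scheme.Hom.appLE (Proj.map f hf) (Proj.basicOpen 𝒜 s) (Proj.basicOpen ℬ (f s)) (by rfl)) := by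
      rw [h1]; infer_instance
    exact IsIso.of_isIso_comp_left (Proj.awayToSection 𝒜 s) _
  exact (ConcreteCategory.isIso_iff_bijective _).mp i4

theorem appLE_bij_congr {X Y : Scheme.{u}} (g : X ⟶ Y) {U U' : Y.Opens} {V V' : X.Opens}
    (hU : U = U') (hV : V = V') (e : V ≤ g ⁻¹ᵁ U) (e' : V' ≤ g ⁻¹ᵁ U')
    (h : Function.Bijective (g.appLE U V e)) : Function.Bijective (g.appLE U' V' e') := by
  subst hU hV
  exact h

theorem isIso_map (h : ∀ (d : ℕ) (s : A), 0 < d → s ∈ 𝒜 d →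
      Function.Bijective (Away.map f s : Away 𝒜 s →+* Away ℬ (f s))) : IsIso (Proj.map f hf) := by
  let I := (Proj.affineOpenCover 𝒜).I₀
  let U : I → (Proj 𝒜).affineOpens := fun s => ⟨Proj.basicOpen 𝒜 (s.2 : A), Proj.isAffineOpen_basicOpen 𝒜 _ s.2.2 s.1.2⟩
  have hU : ⨆ s, (U s : (Proj 𝒜).Opens) = ⊤ := by
    rw [eq_top_iff]
    intro x _
    have hx := (Proj.affineOpenCover 𝒜).covers x
    rw [TopologicalSpace.Opens.mem_iSup]
    refine ⟨(Proj.affineOpenCover 𝒜).idx x, ?_⟩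
    obtain ⟨y, hy⟩ := hx
    change x ∈ Proj.basicOpen 𝒜 (((Proj.affineOpenCover 𝒜).idx x).2 : A)
    rw [← Proj.opensRange_awayι 𝒜 _ ((Proj.affineOpenCover 𝒜).idx x).2.2 ((Proj.affineOpenCover 𝒜).idx x).1.2]
    exact ⟨y, hy⟩
  change MorphismProperty.isomorphisms Scheme.{u} (Proj.map f hf)
  rw [HasAffineProperty.iff_of_iSup_eq_top (P := MorphismProperty.isomorphisms Scheme.{u}) U hU]
  intro s
  have haff : IsAffineOpen (Proj.map f hf ⁻¹ᵁ (U s : (Proj 𝒜).Opens)) := by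
    change IsAffineOpen (Proj.map f hf ⁻¹ᵁ (Proj.basicOpen 𝒜 (s.2 : A)))
    rw [Proj.map_preimage_basicOpen]
    exact Proj.isAffineOpen_basicOpen ℬ _ (f.2 s.2.2) s.1.2
  refine ⟨haff, ?_⟩
  have h5 := appLE_bijective hf s.1.2 (s.2 : A) s.2.2 (h _ _ s.1.2 s.2.2)
  rw [ConcreteCategory.isIso_iff_bijective, Scheme.Hom.appTop, morphismRestrict_app']
  refine appLE_bij_congr _ ?_ ?_ _ _ h5
  · exact (TopologicalSpace.Opens.ext (by simp [U])).symm
  · apply TopologicalSpace.Opens.ext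
    rw [← Proj.map_preimage_basicOpen f hf]
    simp [U]

theorem isIso_map_of_bijOn (hbij : ∀ n : ℕ, 0 < n → Set.BijOn f (𝒜 n) (ℬ n)) : IsIso (Proj.map f hf) :=
  isIso_map hf fun _ s hd0 hd => away_map_bijective hbij hd0 s hd

end K31.ProjIso
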