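import Groth.Agent.Ega2.GlobGenCrit
import Mathlib.AlgebraicGeometry.QuasiAffine

/-!
# Quasi-coherent modules on quasi-affine schemes are globally generated
-/

set_option autoImplicit false
universe u
open CategoryTheory CategoryTheory.Limits AlgebraicGeometry Opposite TopologicalSpace

namespace K31.QAff

open Groth.Agent.Fdesc.LocGen Groth.Agent.Ega2

theorem isGloballyGenerated (X : Scheme.{u}) [X.IsQuasiAffine] (F : X.Modules) (hF : Coh.IsQCoh F) :
    Curv2.IsGloballyGenerated F := by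
  refine GlobGenCrit.isGloballyGenerated_of_span hF
    (ι := {r : Γ(X, ⊤) // IsAffineOpen (X.basicOpen r)}) (fun r => X.basicOpen r.1) (fun r => r.2) ?_ fun r => ?_
  · rw [eq_top_iff]
    intro x _
    obtain ⟨_, ⟨_, ⟨r, hr, rfl⟩, rfl⟩, hxr, -⟩ := (Scheme.IsQuasiAffine.isBasis_basicOpen
      X).exists_subset_of_mem_open (Set.mem_univ x) isOpen_univ
    exact Opens.mem_iSup.mpr ⟨⟨r, hr⟩, hxr⟩
  · rw [eq_top_iff]
    intro v _
    obtain ⟨n, t, ht⟩ := (Groth.Agent.Ega1.QCohLoc.isLocAt_of_qcqs hF (V := ⊤) isCompact_univ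
      isQuasiSeparated_univ r.1).surj v
    have ht' : res F (X.basicOpen_le r.1) t = ores (X.basicOpen_le r.1) r.1 ^ n • v := ht
    have hu : IsUnit (ores (X.basicOpen_le r.1) r.1 ^ n) :=
      (X.toRingedSpace.isUnit_res_basicOpen r.1).pow n
    obtain ⟨w, hw⟩ := hu
    have : v = (↑(w⁻¹) : Γ(X, X.basicOpen r.1)) • res F (X.basicOpen_le r.1) t := by
      rw [ht', ← hw, smul_smul, Units.inv_mul, one_smul]
    rw [this]
    exact Submodule.smul_mem _ _ (Submodule.subset_span ⟨t, rfl⟩)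

end K31.QAff
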