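import Groth.Agent.EGA2.K31.QAffHom
import Groth.Agent.CalgA.RelApprox
import Groth.Agent.Smoothlim.ImmersionStage
import Mathlib.AlgebraicGeometry.Morphisms.FiniteType

/-!
# A quasi-affine morphism of finite type is an immersion followed by an affine morphism of finite type
-/

set_option autoImplicit false
universe u
open CategoryTheory CategoryTheory.Limits AlgebraicGeometry Opposite TopologicalSpace

namespace K31.QAffFactor

open Groth.Agent.CalgA.QCSub Groth.Agent.CalgA.RelApprox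

variable {X Y : Scheme.{u}} (f : X ⟶ Y)

/-- A finite set of sections of `f_* O_X` can be put in a quasi-coherent subalgebra of finite type. -/
theorem exists_ft_subset [QuasiCompact f] [QuasiSeparated f] [CompactSpace Y] [QuasiSeparatedSpace Y]
    {ι : Type*} (t : Finset ι) (V : ι → Y.Opens) (hV : ∀ i, IsAffineOpen (V i)) (E : ∀ i, Set Γ(X, f ⁻¹ᵁ V i))
    (hE : ∀ i, (E i).Finite) : ∃ K : QA f, FTOn K ⊤ ∧ ∀ i ∈ t, E i ⊆ K.carrier (V i) := by
  classical
  have key : ∀ (i : ι) (F : Set Γ(X, f ⁻¹ᵁ V i)), F.Finite → ∃ K : QA f, FTOn K ⊤ ∧ F ⊆ K.carrier (V i) := by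
    intro i F hF
    induction F, hF using Set.Finite.induction_on with
    | empty =>
      obtain ⟨K, hK, -⟩ := exists_ft_mem (π := f) (hV i) 0
      exact ⟨K, hK, Set.empty_subset _⟩
    | @insert a s _ _ ih =>
      obtain ⟨K, hK, hs⟩ := ih
      obtain ⟨K', hK', ha⟩ := exists_ft_mem (π := f) (hV i) a
      obtain ⟨K'', hK'', h1, h2⟩ := exists_ft_ge K K' hK hK'
      exact ⟨K'', hK'', Set.insert_subset (h2 _ ha) (hs.trans (h1 _))⟩
  induction t using Finset.induction_on with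
  | empty =>
    obtain ⟨K, hK⟩ : ∃ K : QA f, FTOn K ⊤ := by
      have hc : IsCompact ((⊥ : Y.Opens) : Set Y) := isCompact_empty
      obtain ⟨K, -, hK, -⟩ := exists_ft_eqOn ((gen (π := f) ⊥ ∅).sh hc) hc
        (fun x hx ↦ hx.elim)
      exact ⟨K, hK⟩
    exact ⟨K, hK, by simp⟩
  | insert i t _ ih =>
    obtain ⟨K, hK, hs⟩ := ih
    obtain ⟨K', hK', ha⟩ := key i (E i) (hE i)
    obtain ⟨K'', hK'', h1, h2⟩ := exists_ft_ge K K' hK hK'
    refine ⟨K'', hK'', fun j hj => ?_⟩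
    rcases Finset.mem_insert.mp hj with rfl | hj
    · exact ha.trans (h2 _)
    · exact (hs j hj).trans (h1 _)

/-- The local statement: finitely many sections suffice for a surjection on a basic open. -/
theorem exists_gens [QuasiCompact f] [QuasiSeparated f] [LocallyOfFiniteType f] {V : Y.Opens} (hV : IsAffineOpen V)
    (r : Γ(X, f ⁻¹ᵁ V)) (hr : IsAffineOpen (X.basicOpen r)) :
    ∃ E : Set Γ(X, f ⁻¹ᵁ V), E.Finite ∧ ∀ K : QA f, E ⊆ K.carrier V →
      ∃ (O : (Groth.Agent.CalgA.RelApprox.Y K).Opens) (e : X.basicOpen r = (q K) ⁻¹ᵁ O),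
        Function.Surjective ((q K).appLE O (X.basicOpen r) e.le).hom := by
  have hle : X.basicOpen r ≤ f ⁻¹ᵁ V := X.basicOpen_le r
  have hft : (f.appLE V (X.basicOpen r) hle).hom.FiniteType :=
    HasRingHomProperty.appLE (P := @LocallyOfFiniteType) f inferInstance ⟨V, hV⟩ ⟨_, hr⟩ hle
  let _ : Algebra Γ(Y, V) Γ(X, X.basicOpen r) := (f.appLE V (X.basicOpen r) hle).hom.toAlgebra
  obtain ⟨⟨S, hS⟩⟩ : Algebra.FiniteType Γ(Y, V) Γ(X, X.basicOpen r) := hft
  have hc : IsCompact ((f ⁻¹ᵁ V : X.Opens) : Set X) := QuasiCompact.isCompact_preimage (f := f) V.1 V.2 hV.isCompact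
  have hqs : IsQuasiSeparated ((f ⁻¹ᵁ V : X.Opens) : Set X) := f.isQuasiSeparated_preimage hV.isQuasiSeparated
  choose n b hb using fun s : Γ(X, X.basicOpen r) => exists_rT_eq hc hqs r hle rfl s
  refine ⟨insert r (b '' (S : Set _)), (S.finite_toSet.image b).insert r, fun K hK => ?_⟩
  obtain ⟨y, hy⟩ := q_appLE_range (B := K) V hV r (hK (Set.mem_insert _ _))
  let O := (Groth.Agent.CalgA.RelApprox.Y K).basicOpen y
  have hO : X.basicOpen r = (q K) ⁻¹ᵁ O := by
    rw [Scheme.preimage_basicOpen, ← hy]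
    change X.basicOpen (X.presheaf.map _ ((q K).app _ y)) = _
    rw [Scheme.basicOpen_res, inf_eq_right]
    refine (X.basicOpen_le _).trans ?_
    rw [← Scheme.Hom.comp_preimage, q_p]
  refine ⟨O, hO, ?_⟩
  let ρ : Γ(Groth.Agent.CalgA.RelApprox.Y K, O) →+* Γ(X, X.basicOpen r) := ((q K).appLE O (X.basicOpen r) hO.le).hom
  have hOle : O ≤ p K ⁻¹ᵁ V := (Groth.Agent.CalgA.RelApprox.Y K).basicOpen_le y
  have hres : ∀ z : Γ(Groth.Agent.CalgA.RelApprox.Y K, p K ⁻¹ᵁ V), ρ (rT hOle z) =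
      rT hle ((q K).appLE (p K ⁻¹ᵁ V) (f ⁻¹ᵁ V) (Groth.Agent.CalgA.LimCrit.preimage_le (q_p K) V) z) := by
    intro z
    have e1 := congr($(Scheme.Hom.map_appLE (q K) hO.le (homOfLE hOle).op) z)
    have e2 := congr($(Scheme.Hom.appLE_map (q K) (Groth.Agent.CalgA.LimCrit.preimage_le (q_p K) V) (homOfLE hle).op) z)
    exact e1.trans e2.symm
  have hu : IsUnit (rT hOle y) := (Groth.Agent.CalgA.RelApprox.Y K).toRingedSpace.isUnit_res_basicOpen y
  have hS' : ∀ s ∈ S, s ∈ ρ.range := by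
    intro s hs
    obtain ⟨z, hz⟩ := q_appLE_range (B := K) V hV (b s) (hK (Set.mem_insert_of_mem _ ⟨s, hs, rfl⟩))
    obtain ⟨v, hv⟩ := hu
    refine ⟨(↑(v⁻¹) : Γ(Groth.Agent.CalgA.RelApprox.Y K, O)) ^ (n s) * rT hOle z, ?_⟩
    have e3 : ρ (↑v : Γ(Groth.Agent.CalgA.RelApprox.Y K, O)) = rT hle r := by rw [hv, hres, hy]
    rw [map_mul, map_pow, hres, hz, hb, ← e3, ← mul_assoc, ← mul_pow, ← map_mul, Units.inv_mul, map_one, one_pow,
      one_mul]
  have halg : ∀ a : Γ(Y, V), algebraMap Γ(Y, V) Γ(X, X.basicOpen r) a ∈ ρ.range := by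
    intro a
    refine ⟨(p K).appLE V O hOle a, ?_⟩
    have e4 := congr($(Scheme.Hom.appLE_comp_appLE (q K) (p K) V O (X.basicOpen r) hOle hO.le) a)
    refine e4.trans ?_
    simp only [q_p]
    rfl
  let R₀ : Subalgebra Γ(Y, V) Γ(X, X.basicOpen r) := { ρ.range with algebraMap_mem' := halg }
  have htop : R₀ = ⊤ := by
    rw [eq_top_iff, ← hS]
    exact Algebra.adjoin_le hS'
  intro s
  have : s ∈ R₀ := by rw [htop]; trivial
  exact this

/-- **Factorization**. -/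
theorem exists_factor [CompactSpace Y] [QuasiSeparatedSpace Y] (hf : Mor2.IsQuasiAffine f) [LocallyOfFiniteType f] :
    ∃ (X'' : Scheme.{u}) (g : X'' ⟶ Y) (j : X ⟶ X''),
      IsAffineHom g ∧ LocallyOfFiniteType g ∧ IsImmersion j ∧ j ≫ g = f := by
  have hqc : QuasiCompact f := hf.1
  have hsep : IsSeparated f := K31.QAffHom.isSeparated f hf
  have hX : CompactSpace X := QuasiCompact.compactSpace_of_compactSpace f
  have h1 : ∀ x : X, ∃ (V : Y.Opens) (_ : IsAffineOpen V) (r : Γ(X, f ⁻¹ᵁ V)), x ∈ X.basicOpen r ∧ IsAffineOpen (X.basicOpen r) := by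
    intro x
    obtain ⟨_, ⟨V, hV, rfl⟩, hxV, -⟩ := Y.isBasis_affineOpens.exists_subset_of_mem_open (Set.mem_univ (f x)) isOpen_univ
    obtain ⟨r, hxr, -, hr⟩ := K31.QAffHom.exists_basicOpen (hf.2 V hV) (x := x) hxV (U := ⊤) trivial
    exact ⟨V, hV, r, hxr, hr⟩
  choose V hV r hxr hr using h1
  choose E hE hEK using fun x => exists_gens f (hV x) (r x) (hr x)
  obtain ⟨t, ht⟩ := isCompact_univ.elim_finite_subcover (fun x : X => (X.basicOpen (r x) : Set X))
    (fun x => (X.basicOpen (r x)).2) (fun x _ => Set.mem_iUnion.mpr ⟨x, hxr x⟩)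
  obtain ⟨K, hK, hKE⟩ := exists_ft_subset f t V hV E hE
  refine ⟨Groth.Agent.CalgA.RelApprox.Y K, p K, q K, inferInstance, locallyOfFiniteType_p hK, ?_, q_p K⟩
  refine Groth.Agent.Smoothlim.ImmersionStage.isImmersion_of_forall_exists _ fun x => ?_
  have hx := ht (Set.mem_univ x)
  simp only [Set.mem_iUnion] at hx
  obtain ⟨x', hx', hx⟩ := hx
  obtain ⟨O, e, hs⟩ := hEK x' K (hKE x' hx')
  exact ⟨O, X.basicOpen (r x'), e, hx, hr x', hs⟩

end K31.QAffFactor
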