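import Groth.Agent.Ega2.IdealAmple
import Groth.Agent.Ega2.AmpleUnit
import Groth.Agent.Ega2.H287.FinGenFree
import Groth.Agent.CohqA.IdealMod

/-!
# A quasi-compact quasi-separated scheme whose ideals of finite type are globally generated is quasi-affine
-/

set_option autoImplicit false
universe u
open CategoryTheory CategoryTheory.Limits AlgebraicGeometry Opposite TopologicalSpace

namespace K31.QAffIdeal

open Groth.Agent Groth.Agent.Ega2

/-- `O^n ≅ O`. -/
noncomputable def powUnit (X : Scheme.{u}) : (n : ℕ) →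
    (CohB1.tensorPow (Coh.structureModule X) n ≅ Coh.structureModule X)
  | 0 => Iso.refl _
  | n + 1 => Ega2.Tens.mapTIso (powUnit X n) (Iso.refl _) ≪≫ Ega2.Tens.lunit _

theorem isQuasiAffine (X : Scheme.{u}) [CompactSpace X] [QuasiSeparatedSpace X]
    (h : ∀ (J : X.Modules) (i : J ⟶ Coh.structureModule X), Mono i → Coh.IsQCoh J → CohB1.IsFT J →
      Curv2.IsGloballyGenerated J) : X.IsQuasiAffine := by
  refine Weight.isQuasiAffine_of_isAmple_structureModule
    (IdealAmple.isAmple_of_ideal_quotients _ Fdesc.LocGen.isInvertible_structureModule fun I hI => ?_)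
  have h1 := CohqA.IdealMod.isQCoh_idealMod I
  have h2 := CohqA.IdealMod.isFT_idealMod I hI
  have h3 := h _ (ClSub.idealModι I) (CohqA.IdealMod.mono_idealModι I) h1 h2
  obtain ⟨N, p, hp⟩ := H287.FinGenFree.exists_epi_freeMod ⟨h1, h2⟩ h3
  exact ⟨0, N, p ≫ ((Tens.mapTIso (Iso.refl _) (powUnit X 1) ≪≫ Tens.runit _).inv), epi_comp _ _⟩

end K31.QAffIdeal
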