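import Groth.Agent.EGA2.K31.GrHom
import Groth.Agent.EGA2.K40.RelSec
import Groth.Agent.Sga67.Sec

/-!
# Modules attached to graded modules on a relative Proj

For `hF : IsRelTilde 𝒮 p chart ℳ n F lam`:
* `restrictEmb`: the restriction of `F` to a chart; `isQCoh`: `F` is quasi-coherent; `isZero_of_isTN`;
* `existsUnique_iso`, `existsUnique_map`: functoriality in `ℳ`;
* `mono_of_inj`, `epi_of_surj`, `exact_of_exact`: exactness in `ℳ`.
-/

set_option autoImplicit false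
universe u

open CategoryTheory CategoryTheory.Limits AlgebraicGeometry TopologicalSpace Opposite TopCat
open scoped HomogeneousIdeal

noncomputable section

namespace K31.RelTilde

open RelProj K34.OpenMap K40.RelSec K35.RelProjBasic K31.GrSect K31.GrFracs K31.GrHom
open Groth.Agent.Fdesc.LocGen hiding sec res_sec

variable {Y P : Scheme.{u}} {𝒮 : RelProj.QCGrAlg Y} {p : P ⟶ Y}
  {chart : ∀ (U : Y.Opens) (hU : IsAffineOpen U), (((p ⁻¹ᵁ U : P.Opens) : Scheme.{u}) ≅ Proj (𝒮.deg U hU))}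

section one

variable {ℳ : GrModule 𝒮} {n : ℤ} {F : P.Modules}
  {lam : ∀ (U : Y.Opens) (hU : IsAffineOpen U),
    F ⟶ (Scheme.Modules.pushforward (emb p chart U hU)).obj (GrMod.tilde (𝒮.deg U hU) (ℳ.deg U hU) n)}

include chart in
/-- Every point of an open set lies in a chart. -/
theorem exists_chart (W : P.Opens) (x : P) (hx : x ∈ W) : ∃ (U : Y.Opens) (hU : IsAffineOpen U)
    (y : Proj (𝒮.deg U hU)), emb p chart U hU y = x ∧ x ∈ W ⊓ p ⁻¹ᵁ U ∧ y ∈ emb p chart U hU ⁻¹ᵁ (W ⊓ p ⁻¹ᵁ U) := by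
  obtain ⟨U, hU, y, hy⟩ := exists_emb (chart := chart) x
  have h1 : x ∈ p ⁻¹ᵁ U := by
    rw [← opensRange_emb (chart := chart) U hU, ← hy]
    exact ⟨y, rfl⟩
  refine ⟨U, hU, y, hy, ⟨hx, h1⟩, ?_⟩
  change emb p chart U hU y ∈ W ⊓ p ⁻¹ᵁ U
  rw [hy]
  exact ⟨hx, h1⟩

variable (hF : IsRelTilde 𝒮 p chart ℳ n F lam)
include hF

theorem hlam (U : Y.Opens) (hU : IsAffineOpen U) (W : P.Opens) (hW : W ≤ (emb p chart U hU).opensRange) :
    Function.Bijective ((lam U hU).app W) :=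
  hF.bijective U hU W (hW.trans (opensRange_emb U hU).le)

/-- The restriction of `(ℳ(n))~` to a chart. -/
def restrictEmb (U : Y.Opens) (hU : IsAffineOpen U) :
    F.restrict (emb p chart U hU) ≅ GrMod.tilde (𝒮.deg U hU) (ℳ.deg U hU) n :=
  restrictIso (emb p chart U hU) (lam U hU) (hlam hF U hU)

/-- `(ℳ(n))~` is quasi-coherent. -/
theorem isQCoh : Coh.IsQCoh F := by
  refine Groth.Agent.Ega1.QCohLoc.isQCoh_of_cover F (fun i : {U : Y.Opens // IsAffineOpen U} => Proj (𝒮.deg i.1 i.2))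
    (fun i => emb p chart i.1 i.2) (fun x => ?_) fun i => ?_
  · obtain ⟨U, hU, y, hy⟩ := exists_emb (chart := chart) x
    exact ⟨⟨U, hU⟩, y, hy⟩
  · exact Groth.Agent.Ega1.QCohLoc.isQCoh_of_iso (restrictEmb hF i.1 i.2).symm (isQCoh_tilde n)

theorem ext_sec {W : P.Opens} {s s' : Γ(F, W)}
    (h : ∀ (U : Y.Opens) (hU : IsAffineOpen U), sec (emb p chart U hU) (lam U hU) W s =
      sec (emb p chart U hU) (lam U hU) W s') : s = s' :=
  K40.RelSec.sec_ext p lam hF.bijective h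

/-- A section of the chart module over an open `V` comes from a section of `F` over the image. -/
theorem exists_sec_image (U : Y.Opens) (hU : IsAffineOpen U) {V : (Proj (𝒮.deg U hU)).Opens}
    (s : Γ(GrMod.tilde (𝒮.deg U hU) (ℳ.deg U hU) n, V)) :
    ∃ t : Γ(F, emb p chart U hU ''ᵁ V), sec (emb p chart U hU) (lam U hU) _ t =
      res _ ((emb p chart U hU).preimage_image_eq V).le s :=
  (hlam hF U hU _ ((emb p chart U hU).image_le_opensRange V)).2 _

theorem isZero_of_isTN (hTN : ℳ.IsTN) : IsZero F := by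
  rw [IsZero.iff_id_eq_zero]
  apply Scheme.Modules.hom_ext
  intro V
  ext s
  have h0 : ∀ t : Γ(F, V), t = 0 := fun t => ext_sec hF fun U hU => by
    obtain ⟨n₀, h⟩ := hTN
    have h1 : ∀ z : Γ(GrMod.tilde (𝒮.deg U hU) (ℳ.deg U hU) n, emb p chart U hU ⁻¹ᵁ V), z = 0 :=
      fun z => eq_zero_of_TN n ⟨n₀, fun k hk m hm => h U hU k hk m hm⟩ z
    rw [h1 (sec _ _ _ t), h1 (sec _ _ _ 0)]
  exact (h0 _).trans (h0 _).symm

/-- The reading over a basic open, on values. -/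
theorem val_sec (hP : IsRelProj 𝒮 p chart) (U : Y.Opens) (hU : IsAffineOpen U) (r : Γ(Y, U)) (W : P.Opens)
    (s : Γ(F, W)) (y : ProjectiveSpectrum (𝒮.deg (Y.basicOpen r) (hU.basicOpen r)))
    (hy : (emb p chart (Y.basicOpen r) (hU.basicOpen r)).base y ∈ W) :
    gval (sec (emb p chart (Y.basicOpen r) (hU.basicOpen r)) (lam (Y.basicOpen r) (hU.basicOpen r)) W s) ⟨y, hy⟩ =
      GrMod.locModMap (𝒮.res hU (hU.basicOpen r) (Y.basicOpen_le r)) (𝒮.irrelevant_le_map U hU r)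
        (ℳ.res hU (hU.basicOpen r) (Y.basicOpen_le r)) y
        (gval (sec (emb p chart U hU) (lam U hU) W s) ⟨_, emb_comap_mem hP U hU r W y hy⟩) :=
  hF.compat U hU r W s y hy (emb_comap_mem hP U hU r W y hy)

end one

section two

variable {ℳ 𝒩 : GrModule 𝒮} {n : ℤ} {F : P.Modules}
  {lam : ∀ (U : Y.Opens) (hU : IsAffineOpen U),
    F ⟶ (Scheme.Modules.pushforward (emb p chart U hU)).obj (GrMod.tilde (𝒮.deg U hU) (ℳ.deg U hU) n)}
  {G : P.Modules}
  {lam' : ∀ (U : Y.Opens) (hU : IsAffineOpen U),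
    G ⟶ (Scheme.Modules.pushforward (emb p chart U hU)).obj (GrMod.tilde (𝒮.deg U hU) (𝒩.deg U hU) n)}

/-- The map of sections over an affine open. -/
abbrev lin (u : ℳ.mod ⟶ 𝒩.mod) (U : Y.Opens) :
    ℳ.mod.val.obj (op U) →ₗ[𝒮.presheaf.obj (op U)] 𝒩.mod.val.obj (op U) :=
  (show ℳ.mod.val.obj (op U) →ₗ[𝒮.presheaf.obj (op U)] 𝒩.mod.val.obj (op U) from (u.val.app (op U)).hom)

theorem lin_res (u : ℳ.mod ⟶ 𝒩.mod) {U V : Y.Opens} (hU : IsAffineOpen U) (hV : IsAffineOpen V) (i : V ≤ U)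
    (m : ℳ.mod.val.obj (op U)) : lin u V (ℳ.res hU hV i m) = 𝒩.res hU hV i (lin u U m) :=
  PresheafOfModules.naturality_apply u.val (homOfLE i).op m

theorem locModMap_locMap (u : ℳ.mod ⟶ 𝒩.mod) (U : Y.Opens) (hU : IsAffineOpen U) (r : Γ(Y, U))
    (y : ProjectiveSpectrum (𝒮.deg (Y.basicOpen r) (hU.basicOpen r)))
    (q : GrMod.LocMod (𝒮.deg U hU) (M := ℳ.mod.val.obj (op U)) (ProjectiveSpectrum.comap
        (𝒮.res hU (hU.basicOpen r) (Y.basicOpen_le r)) (𝒮.irrelevant_le_map U hU r) y)) :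
    GrMod.locModMap (𝒮.res hU (hU.basicOpen r) (Y.basicOpen_le r)) (𝒮.irrelevant_le_map U hU r)
        (𝒩.res hU (hU.basicOpen r) (Y.basicOpen_le r)) y (GrMod.locMap (lin u U) _ q) =
      GrMod.locMap (lin u (Y.basicOpen r)) y
        (GrMod.locModMap (𝒮.res hU (hU.basicOpen r) (Y.basicOpen_le r)) (𝒮.irrelevant_le_map U hU r)
          (ℳ.res hU (hU.basicOpen r) (Y.basicOpen_le r)) y q) := by
  induction q using LocalizedModule.induction_on with
  | h m s =>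
    rw [GrMod.locMap_mk, GrMod.locModMap_mk, GrMod.locModMap_mk, GrMod.locMap_mk]
    congr 1
    exact (lin_res u hU (hU.basicOpen r) (Y.basicOpen_le r) m).symm

/-- The condition "`ut` is induced by `u`". -/
def Ind (u : ℳ.mod ⟶ 𝒩.mod) (hu : IsGrModHom u) (lam : ∀ (U : Y.Opens) (hU : IsAffineOpen U),
    F ⟶ (Scheme.Modules.pushforward (emb p chart U hU)).obj (GrMod.tilde (𝒮.deg U hU) (ℳ.deg U hU) n))
    (lam' : ∀ (U : Y.Opens) (hU : IsAffineOpen U),
    G ⟶ (Scheme.Modules.pushforward (emb p chart U hU)).obj (GrMod.tilde (𝒮.deg U hU) (𝒩.deg U hU) n))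
    (ut : F ⟶ G) : Prop :=
  ∀ (U : Y.Opens) (hU : IsAffineOpen U),
      ut ≫ lam' U hU =
        lam U hU ≫ (Scheme.Modules.pushforward (emb p chart U hU)).map
          (GrMod.map (𝒮.deg U hU) (lin u U) (hu U hU) n)

theorem Ind.sec {u : ℳ.mod ⟶ 𝒩.mod} {hu : IsGrModHom u} {ut : F ⟶ G} (h : Ind u hu lam lam' ut)
    (U : Y.Opens) (hU : IsAffineOpen U) (W : P.Opens) (s : Γ(F, W)) :
    sec (emb p chart U hU) (lam' U hU) W (ut.app W s) =
      (GrMod.map (𝒮.deg U hU) (lin u U) (hu U hU) n).app _ (sec (emb p chart U hU) (lam U hU) W s) := by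
  have h1 : (ut ≫ lam' U hU).app W s = (lam U hU ≫ (Scheme.Modules.pushforward (emb p chart U hU)).map
          (GrMod.map (𝒮.deg U hU) (lin u U) (hu U hU) n)).app W s := by rw [h U hU]
  exact h1

theorem gval_sec_comp (u : ℳ.mod ⟶ 𝒩.mod) (hu : IsGrModHom u) (U : Y.Opens) (hU : IsAffineOpen U) (W : P.Opens)
    (s : Γ(F, W)) (y : (emb p chart U hU ⁻¹ᵁ W : (Proj (𝒮.deg U hU)).Opens)) :
    gval (sec (emb p chart U hU) (lam U hU ≫ (Scheme.Modules.pushforward (emb p chart U hU)).map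
          (GrMod.map (𝒮.deg U hU) (lin u U) (hu U hU) n)) W s) y =
      GrMod.locMap (lin u U) y.1 (gval (sec (emb p chart U hU) (lam U hU) W s) y) := rfl

variable (hP : IsRelProj 𝒮 p chart) (hF : IsRelTilde 𝒮 p chart ℳ n F lam) (hG : IsRelTilde 𝒮 p chart 𝒩 n G lam')

include hP hF hG

/-- Functoriality of `(ℳ(n))~`. -/
theorem existsUnique_map (u : ℳ.mod ⟶ 𝒩.mod) (hu : IsGrModHom u) : ∃! ut : F ⟶ G, Ind u hu lam lam' ut := by
  refine existsUnique_hom p lam' hG.bijective (fun U hU => emb_preimage U hU)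
    (fun U hU => lam U hU ≫ (Scheme.Modules.pushforward (emb p chart U hU)).map
          (GrMod.map (𝒮.deg U hU) (lin u U) (hu U hU) n)) ?_
  intro U hU r W s s' hW h
  refine gval_ext fun y => ?_
  refine (val_sec hG hP U hU r W s y.1 y.2).trans ?_
  rw [h, gval_sec_comp u hu U hU W s', locModMap_locMap, ← val_sec hF hP U hU r W s' y.1 y.2]
  exact (gval_sec_comp u hu (Y.basicOpen r) (hU.basicOpen r) W s' y).symm

omit hP hG in
theorem mono_of_inj {u : ℳ.mod ⟶ 𝒩.mod} {hu : IsGrModHom u} {ut : F ⟶ G} (h : Ind u hu lam lam' ut)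
    (hinj : ∃ n₀ : ℕ, ∀ (U : Y.Opens) (hU : IsAffineOpen U) (k : ℕ), n₀ ≤ k →
      ∀ m ∈ ℳ.deg U hU k, (u.val.app (op U)).hom m = 0 → m = 0) : Mono ut := by
  obtain ⟨n₀, hinj⟩ := hinj
  refine Groth.Agent.Sga67.Sec.mono_of_locally_injective ut fun x W hx => ⟨W, le_rfl, hx, fun s hs => ?_⟩
  refine ext_sec hF fun U hU => ?_
  have h0 : ut.app W s = 0 := hs
  have h1 := h.sec U hU W s
  rw [h0, map_zero] at h1
  exact (map_injective (lin u U) (hu U hU) n ⟨n₀, fun k hk m hm => hinj U hU k hk m hm⟩ _ h1.symm).trans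
    (map_zero (sec (emb p chart U hU) (lam U hU) W)).symm

omit hP in
theorem epi_of_surj {u : ℳ.mod ⟶ 𝒩.mod} {hu : IsGrModHom u} {ut : F ⟶ G} (h : Ind u hu lam lam' ut)
    (hsurj : ∃ n₀ : ℕ, ∀ (U : Y.Opens) (hU : IsAffineOpen U) (k : ℕ), n₀ ≤ k →
      ∀ m' ∈ 𝒩.deg U hU k, ∃ m ∈ ℳ.deg U hU k, (u.val.app (op U)).hom m = m') : Epi ut := by
  obtain ⟨n₀, hsurj⟩ := hsurj
  refine Groth.Agent.Sga67.Sec.epi_of_locally_surjective ut fun W t x hx => ?_
  obtain ⟨U, hU, y, hy, hxW, hyW⟩ := exists_chart (chart := chart) W x hx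
  let j := emb p chart U hU
  obtain ⟨V, hV, s, hyV, hs⟩ := map_locally_surjective (lin u U) (hu U hU) n
    ⟨n₀, fun k hk m hm => hsurj U hU k hk m hm⟩ (sec j (lam' U hU) _ (res G inf_le_left t)) y hyW
  obtain ⟨s', hs'⟩ := exists_sec_image hF U hU s
  have hVW : j ''ᵁ V ≤ W ⊓ p ⁻¹ᵁ U := (j.image_mono hV).trans (j.image_preimage_le _)
  refine ⟨j ''ᵁ V, hVW.trans inf_le_left, ⟨y, hyV, hy⟩, s', ?_⟩
  refine (hlam hG U hU _ (j.image_le_opensRange V)).1 ?_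
  refine (h.sec U hU _ s').trans ?_
  rw [hs']
  have h2 := app_res (GrMod.map (𝒮.deg U hU) (lin u U) (hu U hU) n) (j.preimage_image_eq V).le s
  refine h2.trans ?_
  rw [hs]
  refine Eq.trans ?_ (res_sec j (lam' U hU) (hVW.trans inf_le_left) t)
  change res _ _ (res _ hV (sec j (lam' U hU) (W ⊓ p ⁻¹ᵁ U) (res G inf_le_left t))) = _
  rw [← res_sec, res_res, res_res]

end two

section three

variable {ℳ 𝒩 𝒦 : GrModule 𝒮} {n : ℤ} {F : P.Modules}
  {lam : ∀ (U : Y.Opens) (hU : IsAffineOpen U),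
    F ⟶ (Scheme.Modules.pushforward (emb p chart U hU)).obj (GrMod.tilde (𝒮.deg U hU) (ℳ.deg U hU) n)}
  {G : P.Modules}
  {lam' : ∀ (U : Y.Opens) (hU : IsAffineOpen U),
    G ⟶ (Scheme.Modules.pushforward (emb p chart U hU)).obj (GrMod.tilde (𝒮.deg U hU) (𝒩.deg U hU) n)}
  {H : P.Modules}
  {lam'' : ∀ (U : Y.Opens) (hU : IsAffineOpen U),
    H ⟶ (Scheme.Modules.pushforward (emb p chart U hU)).obj (GrMod.tilde (𝒮.deg U hU) (𝒦.deg U hU) n)}

theorem exact_of_exact (hF : IsRelTilde 𝒮 p chart ℳ n F lam) (hG : IsRelTilde 𝒮 p chart 𝒩 n G lam')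
    {u : ℳ.mod ⟶ 𝒩.mod} {hu : IsGrModHom u} {v : 𝒩.mod ⟶ 𝒦.mod} {hv : IsGrModHom v}
    (hex : ∀ (U : Y.Opens) (_ : IsAffineOpen U), Function.Exact (u.val.app (op U)).hom (v.val.app (op U)).hom)
    {ut : F ⟶ G} (h : Ind u hu lam lam' ut) {vt : G ⟶ H} (h' : Ind v hv lam' lam'' vt) (w : ut ≫ vt = 0) :
    (ShortComplex.mk ut vt w).Exact := by
  refine Groth.Agent.Sga67.Sec.exact_of_locally fun W t ht x hx => ?_
  obtain ⟨U, hU, y, hy, hxW, hyW⟩ := exists_chart (chart := chart) W x hx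
  let j := emb p chart U hU
  have ht0 : vt.app (W ⊓ p ⁻¹ᵁ U) (res G inf_le_left t) = 0 := by
    rw [app_res]
    have : vt.app W t = 0 := ht
    rw [this, map_zero]
  obtain ⟨V, hV, s, hyV, hs⟩ := map_exact (lin u U) (hu U hU) n (lin v U) (hv U hU) (hex U hU)
    (sec j (lam' U hU) _ (res G inf_le_left t)) (by
      rw [← h'.sec U hU, ht0, map_zero]) y hyW
  obtain ⟨s', hs'⟩ := exists_sec_image hF U hU s
  have hVW : j ''ᵁ V ≤ W ⊓ p ⁻¹ᵁ U := (j.image_mono hV).trans (j.image_preimage_le _)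
  refine ⟨j ''ᵁ V, hVW.trans inf_le_left, ⟨y, hyV, hy⟩, s', ?_⟩
  refine (hlam hG U hU _ (j.image_le_opensRange V)).1 ?_
  refine (h.sec U hU _ s').trans ?_
  rw [hs']
  have h2 := app_res (GrMod.map (𝒮.deg U hU) (lin u U) (hu U hU) n) (j.preimage_image_eq V).le s
  refine h2.trans ?_
  rw [hs]
  refine Eq.trans ?_ (res_sec j (lam' U hU) (hVW.trans inf_le_left) t)
  change res _ _ (res _ hV (sec j (lam' U hU) (W ⊓ p ⁻¹ᵁ U) (res G inf_le_left t))) = _
  rw [← res_sec, res_res, res_res]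

end three

section iso

variable {ℳ : GrModule 𝒮} {n : ℤ} {F : P.Modules}
  {lam : ∀ (U : Y.Opens) (hU : IsAffineOpen U),
    F ⟶ (Scheme.Modules.pushforward (emb p chart U hU)).obj (GrMod.tilde (𝒮.deg U hU) (ℳ.deg U hU) n)}
  {G : P.Modules}
  {lam' : ∀ (U : Y.Opens) (hU : IsAffineOpen U),
    G ⟶ (Scheme.Modules.pushforward (emb p chart U hU)).obj (GrMod.tilde (𝒮.deg U hU) (ℳ.deg U hU) n)}

theorem existsUnique_iso (hP : IsRelProj 𝒮 p chart) (hF : IsRelTilde 𝒮 p chart ℳ n F lam)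
    (hG : IsRelTilde 𝒮 p chart ℳ n G lam') :
    (∃! φ : F ⟶ G, ∀ (U : Y.Opens) (hU : IsAffineOpen U), φ ≫ lam' U hU = lam U hU) ∧
      ∀ φ : F ⟶ G, (∀ (U : Y.Opens) (hU : IsAffineOpen U), φ ≫ lam' U hU = lam U hU) → IsIso φ := by
  have key : ∀ {F G : P.Modules} {lam lam'} (hF : IsRelTilde 𝒮 p chart ℳ n F lam)
      (hG : IsRelTilde 𝒮 p chart ℳ n G lam'),
      ∃! φ : F ⟶ G, ∀ (U : Y.Opens) (hU : IsAffineOpen U), φ ≫ lam' U hU = lam U hU := by
    intro F G lam lam' hF hG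
    refine existsUnique_hom p lam' hG.bijective (fun U hU => emb_preimage U hU) lam ?_
    intro U hU r W s s' hW h
    refine gval_ext fun y => ?_
    refine (val_sec hG hP U hU r W s y.1 y.2).trans ?_
    rw [h]
    exact (val_sec hF hP U hU r W s' y.1 y.2).symm
  refine ⟨key hF hG, fun φ hφ => ?_⟩
  obtain ⟨ψ, hψ, -⟩ := key hG hF
  refine ⟨ψ, (key hF hF).unique (fun U hU => ?_) (fun U hU => Category.id_comp _),
    (key hG hG).unique (fun U hU => ?_) (fun U hU => Category.id_comp _)⟩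
  · rw [Category.assoc, hψ, hφ]
  · rw [Category.assoc, hφ, hψ]

end iso

end K31.RelTilde
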