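import Groth.Agent.EGA2.K31.GrTF
import Groth.Agent.EGA2.K31.RelTilde
import Groth.Agent.EGA2.K36.RelComap
import Groth.Agent.Dcoh.FTFP

/-!
# Conditions (TF), (TN) and the module `ℳ~` on a relative Proj

* `isFT_of_isTF`: `𝒮` generated in degree one, `ℳ` satisfies (TF): `ℳ~` is of finite type;
* `isTN_of_isZero`: if moreover `𝒮_1` is of finite type, `Y` is quasi-compact and `ℳ~ = 0`, then `ℳ` satisfies (TN).
-/

set_option autoImplicit false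
universe u

open CategoryTheory CategoryTheory.Limits AlgebraicGeometry TopologicalSpace Opposite TopCat
open scoped HomogeneousIdeal

noncomputable section

namespace K31.RelTF

open RelProj K34.OpenMap K40.RelSec K35.RelProjBasic K31.GrSect K31.GrFracs K31.GrHom K31.GrTF K31.RelTilde
open Groth.Agent.Fdesc.LocGen hiding sec res_sec

section ring

variable {A σ : Type u} [CommRing A] [SetLike σ A] [AddSubgroupClass σ A] {𝒜 : ℕ → σ} [GradedRing 𝒜]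
variable {M τ : Type u} [AddCommGroup M] [Module A M] [SetLike τ M] [AddSubgroupClass τ M] {ℳ : ℕ → τ}
variable [SetLike.GradedSMul 𝒜 ℳ] [DirectSum.Decomposition ℳ]

theorem isFT_tilde (hgen : Subring.closure ((𝒜 0 : Set A) ∪ (𝒜 1 : Set A)) = ⊤) {n : ℕ}
    (h : (Submodule.span A (⋃ k ∈ Set.Ici n, (ℳ k : Set M))).FG) : CohB1.IsFT (GrMod.tilde 𝒜 ℳ 0) := by
  have : Coh.IsQCoh (GrMod.tilde 𝒜 ℳ 0) := isQCoh_tilde 0
  exact (Groth.Agent.CohqB.FiniteType2.isFT_iff_finite_sections_of_cover (GrMod.tilde 𝒜 ℳ 0)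
    (fun f : {f : A // f ∈ 𝒜 1} => Proj.basicOpen 𝒜 f.1)
    (fun f => Proj.isAffineOpen_basicOpen 𝒜 f.1 f.2 one_pos) (iSup_basicOpen_one hgen)).2
    fun f => finite_sections f.2 h

end ring

variable {Y P : Scheme.{u}} {𝒮 : RelProj.QCGrAlg Y} {p : P ⟶ Y}
  {chart : ∀ (U : Y.Opens) (hU : IsAffineOpen U), (((p ⁻¹ᵁ U : P.Opens) : Scheme.{u}) ≅ Proj (𝒮.deg U hU))}
  {ℳ : GrModule 𝒮} {F : P.Modules}
  {lam : ∀ (U : Y.Opens) (hU : IsAffineOpen U),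
    F ⟶ (Scheme.Modules.pushforward (emb p chart U hU)).obj (GrMod.tilde (𝒮.deg U hU) (ℳ.deg U hU) 0)}

theorem isFT_of_isTF (hF : IsRelTilde 𝒮 p chart ℳ 0 F lam) (hgen : 𝒮.IsGenDegOne) (hTF : ℳ.IsTF) : CohB1.IsFT F := by
  obtain ⟨n, hn⟩ := hTF
  refine Groth.Agent.Dcoh.FTFP.isFT_of_cover fun x => ?_
  obtain ⟨U, hU, y, hy⟩ := exists_emb (chart := chart) x
  refine ⟨_, emb p chart U hU, inferInstance, ⟨y, hy⟩, ?_⟩
  exact Groth.Agent.Dcoh.FTFP.isFT_of_iso (restrictEmb hF U hU).symm (isFT_tilde (hgen U hU) (hn U hU))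

/-- The bound over an affine open. -/
theorem exists_bound (hF : IsRelTilde 𝒮 p chart ℳ 0 F lam) (hgen : 𝒮.IsGenDegOne) (hft : 𝒮.IsFTDeg 1)
    (hTF : ℳ.IsTF) (h0 : IsZero F) (U : Y.Opens) (hU : IsAffineOpen U) :
    ∃ n₀ : ℕ, ∀ k, n₀ ≤ k → ∀ m ∈ ℳ.deg U hU k, m = 0 := by
  obtain ⟨n, hn⟩ := hTF
  obtain ⟨B, hB, hB'⟩ := hft U hU
  refine TN_of_zero (hgen U hU) B (fun b hb => hB hb) (fun a ha => ?_) (hn U hU) fun V s => ?_
  · obtain ⟨c, hc⟩ := hB' a ha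
    rw [hc]
    exact sum_mem fun t ht => Ideal.mul_mem_left _ _ (Ideal.subset_span ht)
  · obtain ⟨t, ht⟩ := exists_sec_image hF U hU s
    have ht0 : t = 0 := by
      have h1 : (𝟙 F : F ⟶ F) = 0 := (IsZero.iff_id_eq_zero F).1 h0
      have h2 : (𝟙 F : F ⟶ F).app _ t = (0 : F ⟶ F).app _ t := by rw [h1]
      exact h2
    rw [ht0] at ht
    have h3 : ∀ (V' : (Proj (𝒮.deg U hU)).Opens) (e : V' = V) (h : V' ≤ V),
        res (GrMod.tilde (𝒮.deg U hU) (ℳ.deg U hU) 0) h s = 0 → s = 0 := by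
      rintro _ rfl h h4
      rwa [res_refl] at h4
    refine h3 _ ((emb p chart U hU).preimage_image_eq V) _ (ht.symm.trans ?_)
    exact map_zero (sec (emb p chart U hU) (lam U hU) _)

theorem isTN_of_isZero [CompactSpace Y] (hℳ : Coh.IsQCoh ((AMod.toOS 𝒮.toQCAlg).obj ℳ.mod))
    (hF : IsRelTilde 𝒮 p chart ℳ 0 F lam) (hgen : 𝒮.IsGenDegOne) (hft : 𝒮.IsFTDeg 1)
    (hTF : ℳ.IsTF) (h0 : IsZero F) : ℳ.IsTN := by
  choose! b hb using fun (U : Y.affineOpens) => exists_bound hF hgen hft hTF h0 U.1 U.2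
  obtain ⟨T, hT⟩ := isCompact_univ.elim_finite_subcover (fun U : Y.affineOpens => (U.1 : Set Y)) (fun U => U.1.2)
    (fun x _ => by
      obtain ⟨U, hxU⟩ := TopologicalSpace.Opens.mem_iSup.mp ((iSup_affineOpens_eq_top Y).ge (Set.mem_univ x))
      exact Set.mem_iUnion.2 ⟨U, hxU⟩)
  refine ⟨T.sup b, fun U hU k hk m hm => ?_⟩
  let N := (AMod.toOS 𝒮.toQCAlg).obj ℳ.mod
  have h1 : ∀ x : U, ∃ (V : Y.affineOpens) (r : Γ(Y, V.1)), V ∈ T ∧ Y.basicOpen r ≤ U ∧ x.1 ∈ Y.basicOpen r := by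
    intro x
    obtain ⟨V, hxV⟩ := Set.mem_iUnion.1 (hT (Set.mem_univ x.1))
    obtain ⟨hVT, hxV⟩ := Set.mem_iUnion.1 hxV
    obtain ⟨r, hr, hxr⟩ := V.2.exists_basicOpen_le x hxV
    exact ⟨V, r, hVT, hr, hxr⟩
  choose V r hVT hrU hxr using h1
  have h2 : (show Γ(N, U) from m) = 0 := by
    refine res_ext N (fun x : U => Y.basicOpen (r x)) (fun x => hrU x)
      (fun x hx => Opens.mem_iSup.2 ⟨⟨x, hx⟩, hxr ⟨x, hx⟩⟩) fun x => ?_
    rw [map_zero]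
    have hD : IsAffineOpen (Y.basicOpen (r x)) := (V x).2.basicOpen (r x)
    change ℳ.res hU hD (hrU x) m = 0
    have h3 : ℳ.res hU hD (hrU x) m ∈ ℳ.deg _ hD k := ℳ.res_mem hU hD (hrU x) k m hm
    have H := K36.RelComap.isLoc_mod (V x).1 (V x).2 (r x) ℳ hℳ
    obtain ⟨l, a, ha, hal⟩ := H.msurjH k _ h3
    have h4 : a = 0 := hb (V x) k ((Finset.le_sup (hVT x)).trans hk) a ha
    rw [h4, map_zero] at hal
    exact ((H.unit.pow l).smul_eq_zero).1 hal.symm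
  exact h2

end K31.RelTF
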