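import Groth.Agent.Ega2.H267.AwayBC
import Groth.Agent.Ega3B.TwistCoh
import Groth.Agent.CohqA.PullbackQCoh
import Groth.Agent.Sga67.TwistPull

/-!
# The twisting sheaves under base change

For a graded `R'`-algebra `ℬ` and `𝒜 = ℬ ⊗ R`, the comparison map `Φ^* O(n) ⟶ O(n)` is an isomorphism for every `n`
(no generation hypothesis).
-/

set_option autoImplicit false
universe u
open CategoryTheory CategoryTheory.Limits AlgebraicGeometry TopologicalSpace Opposite HomogeneousLocalization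

namespace K31.TwistBC

open Groth.Agent.CohqA.BaseChangeMod Groth.Agent.Ega2.H267.AwayBC

section alg

/-- A semilinear base change along `R' → R` is a base change along `S → S'` if `S'` is generated by `S` and `R`. -/
theorem isBC_of_gen {R' R S S' : Type u} [CommRing R'] [CommRing R] [CommRing S] [CommRing S'] [Algebra R' R]
    (a : R' →+* S) (a' : R →+* S') (ψ : S →+* S')
    (hgen : Subring.closure (Set.range a' ∪ Set.range ψ) = ⊤)
    {H H' : Type u} [AddCommGroup H] [Module S H] [AddCommGroup H'] [Module S' H'] [Module R' H] [Module R H']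
    (hH : ∀ (r : R') (x : H), r • x = a r • x) (hH' : ∀ (r : R) (x : H'), r • x = a' r • x)
    (hψ : ∀ r, ψ (a r) = a' (algebraMap R' R r))
    (g : H →+ H') (hg : ∀ (s : S) (x : H), g (s • x) = ψ s • g x)
    (hbc : IsBC (algebraMap R' R) g) : IsBC ψ g := by
  refine ⟨hg, fun Q _ _ t ht => ?_⟩
  let _ : Module R Q := Module.compHom Q a'
  have hQ : ∀ (r : R) (x : Q), r • x = a' r • x := fun _ _ => rfl
  obtain ⟨t', ht', hu⟩ := hbc.lift Q t (fun r x => by rw [hH, ht, hψ, hQ])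
  have key : ∀ (s' : S') (x : H'), t' (s' • x) = s' • t' x := by
    intro s'
    have hs' : s' ∈ Subring.closure (Set.range a' ∪ Set.range ψ) := by rw [hgen]; trivial
    induction hs' using Subring.closure_induction with
    | mem y hy =>
      rcases hy with ⟨r, rfl⟩ | ⟨s, rfl⟩
      · intro x
        rw [← hH', t'.map_smul, hQ]
      · let _ : Module R Q := Module.compHom Q a'
        let t₁ : H' →ₗ[R] Q :=
          { toFun := fun x => t' (ψ s • x)
            map_add' := fun x y => by rw [smul_add, map_add]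
            map_smul' := fun r x => by
              rw [hH', smul_smul, mul_comm, ← smul_smul, ← hH', t'.map_smul]; rfl }
        let t₂ : H' →ₗ[R] Q :=
          { toFun := fun x => ψ s • t' x
            map_add' := fun x y => by rw [map_add, smul_add]
            map_smul' := fun r x => by
              rw [t'.map_smul, hQ, smul_smul, mul_comm, ← smul_smul]; rfl }
        have : t₁ = t₂ := hbc.hom_ext fun x => by
          change t' (ψ s • g x) = ψ s • t' (g x)
          rw [← hg, ht', ht', ht]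
        exact fun x => LinearMap.congr_fun this x
    | zero => intro x; rw [zero_smul, zero_smul, map_zero]
    | one => intro x; rw [one_smul, one_smul]
    | add y z _ _ hy hz => intro x; rw [add_smul, add_smul, map_add, hy, hz]
    | neg y _ hy => intro x; rw [neg_smul, neg_smul, map_neg, hy]
    | mul y z _ _ hy hz => intro x; rw [mul_smul, mul_smul, hy, hz]
  refine ⟨{ t' with map_smul' := key }, ht', fun t'' h'' => ?_⟩
  have h4 : ∀ (r : R) (x : H'), t'' (r • x) = r • t'' x := fun r x => by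
    rw [hH', t''.map_smul, hQ]
  have h3 := hu { t'' with map_smul' := h4 } h''
  ext x
  exact LinearMap.congr_fun h3 x

end alg

section two

variable {R A R' B : Type u} [CommRing R'] [CommRing R] [Algebra R' R]
    [CommRing B] [Algebra R' B] {ℬ : ℕ → Submodule R' B} [GradedAlgebra ℬ]
    [CommRing A] [Algebra R A] [Algebra R' A] [IsScalarTower R' R A] {𝒜 : ℕ → Submodule R A}
    [GradedAlgebra 𝒜]
    [Algebra B A] [IsScalarTower R' B A]
    (φ : ℬ →+*ᵍ 𝒜) (hφA : ∀ b : B, φ b = algebraMap B A b)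

/-- multiplication by `s^k` as a map of graded pieces. -/
noncomputable def mulMap' {s : B} {i : ℕ} (hs : s ∈ ℬ i) (m k n : ℕ) :
    ℬ (n * i + m) →ₗ[R'] ℬ ((k + n) * i + m) where
  toFun b := ⟨s ^ k * b.1, by
    rw [add_mul, add_assoc]; exact SetLike.mul_mem_graded (by simpa using SetLike.pow_mem_graded k hs) b.2⟩
  map_add' x y := by ext; simp [mul_add]
  map_smul' r x := by ext; simp

include hφA in
theorem isBC_aux [h : Algebra.IsPushout R' R B A] {i : ℕ} (s : B) (hs : s ∈ ℬ i) (m : ℕ)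
    {S S' H H' : Type u} [CommRing S] [CommRing S'] [AddCommGroup H] [Module S H] [AddCommGroup H'] [Module S' H']
    (a : R' →+* S) (a' : R →+* S') (ψ : S →+* S')
    (hgen : Subring.closure (Set.range a' ∪ Set.range ψ) = ⊤)
    (hψ : ∀ r, ψ (a r) = a' (algebraMap R' R r)) (g : H →+ H') (hg : ∀ (s : S) (x : H), g (s • x) = ψ s • g x)
    (D : ∀ n, ℬ (n * i + m) → H) (hDa : ∀ n x y, D n (x + y) = D n x + D n y)
    (hDs : ∀ n r x, D n (r • x) = a r • D n x)
    (D' : ∀ n, 𝒜 (n * i + m) → H') (hDa' : ∀ n x y, D' n (x + y) = D' n x + D' n y)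
    (hDs' : ∀ n r x, D' n (r • x) = a' r • D' n x)
    (hD : ∀ k n x, D (k + n) (mulMap' hs m k n x) = D n x)
    (hgD : ∀ n x, g (D n x) = D' n (pieceMap φ hφA _ x))
    (hsD : ∀ x : H, ∃ n y, D n y = x) (hsD' : ∀ x : H', ∃ n y, D' n y = x)
    (hk : ∀ n y, D' n y = 0 → ∃ k, mulMap' (φ.2 hs) m k n y = 0) : IsBC ψ g := by
  let _ : Module R' H := Module.compHom H a
  let _ : Module R H' := Module.compHom H' a'
  let _ : Module R' H' := Module.compHom H' (algebraMap R' R)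
  have : IsScalarTower R' R H' := ⟨fun r x y => by
    change (r • x) • y = algebraMap R' R r • x • y
    rw [Algebra.smul_def, mul_smul]⟩
  have hg₀ : ∀ (r : R') (x : H), g (r • x) = r • g x := fun r x => by
    change g (a r • x) = a' (algebraMap R' R r) • g x
    rw [hg, hψ]
  let g₀ : H →ₗ[R'] H' := { g with map_smul' := hg₀ }
  have key : IsBaseChange R g₀ :=
    isBaseChange_of_colim (fun n => pieceMap φ hφA (n * i + m))
      (fun n => isBaseChange_pieceMap φ hφA _) _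
      (fun n => { toFun := D n, map_add' := hDa n, map_smul' := hDs n })
      (fun n => { toFun := D' n, map_add' := hDa' n, map_smul' := hDs' n })
      (fun k n => mulMap' hs m k n)
      (fun k n => mulMap' (φ.2 hs) m k n)
      (fun k n x => Subtype.ext (by
        change φ (s ^ k * x.1) = (φ s) ^ k * φ x.1
        rw [map_mul, map_pow]))
      hD hgD hsD hsD' hk
  exact isBC_of_gen a a' ψ hgen (fun _ _ => rfl) (fun _ _ => rfl) hψ g hg ((isBC_iff_isBaseChange g₀).2 key)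

end two

section frac

open Twist Groth.Agent.Divis.ProjPic Groth.Agent.Ega3B.TwistCoh

variable {R A : Type u} [CommRing R] [CommRing A] [Algebra R A] {𝒜 : ℕ → Submodule R A} [GradedAlgebra 𝒜]

/-- The fraction `b / s ^ (k + l)` for `b` of degree `k i + m`, `m = l i + n`. -/
noncomputable def fr {s : A} {i : ℕ} (hs : s ∈ 𝒜 i) (n : ℤ) (l m : ℕ) (hm : (m : ℤ) = l * i + n) (k : ℕ)
    (b : 𝒜 (k * i + m)) : Γ(twist 𝒜 n, Proj.basicOpen 𝒜 s) :=
  frac b.2 (SetLike.pow_mem_graded (k + l) hs) (by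
    rw [smul_eq_mul]; push_cast; rw [hm]; ring) (Proj.basicOpen 𝒜 s) (fun _ hx => pow_notMem' hx _)

/-- The structure map `R → Γ(D_+(s), O)`. -/
noncomputable def algU (s : A) : R →+* Γ(Proj 𝒜, Proj.basicOpen 𝒜 s) :=
  (Proj.awayToSection 𝒜 s).hom.comp (algR 𝒜 s)

theorem ev_algU (s : A) (r : R) (x : ProjectiveSpectrum 𝒜) (hx : x ∈ Proj.basicOpen 𝒜 s) :
    ev (algU (𝒜 := 𝒜) s r) x hx = algebraMap A (Loc 𝒜 x) (algebraMap R A r) := by
  rw [← Localization.mk_one_eq_algebraMap]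
  rfl

theorem fr_add {s : A} {i : ℕ} (hs : s ∈ 𝒜 i) (n : ℤ) (l m : ℕ) (hm : (m : ℤ) = l * i + n) (k : ℕ)
    (x y : 𝒜 (k * i + m)) : fr hs n l m hm k (x + y) = fr hs n l m hm k x + fr hs n l m hm k y := by
  refine evT_ext fun z hz => ?_
  rw [evT_add, fr, fr, fr, evT_frac, evT_frac, evT_frac, Localization.add_mk_self]
  rfl

theorem fr_smul {s : A} {i : ℕ} (hs : s ∈ 𝒜 i) (n : ℤ) (l m : ℕ) (hm : (m : ℤ) = l * i + n) (k : ℕ)
    (r : R) (x : 𝒜 (k * i + m)) : fr hs n l m hm k (r • x) = algU (𝒜 := 𝒜) s r • fr hs n l m hm k x := by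
  refine evT_ext fun z hz => ?_
  rw [evT_smul, ev_algU, fr, fr, evT_frac, evT_frac, ← Localization.mk_one_eq_algebraMap, Localization.mk_mul,
    one_mul]
  congr 1
  exact Algebra.smul_def r x.1

theorem fr_mul {s : A} {i : ℕ} (hs : s ∈ 𝒜 i) (n : ℤ) (l m : ℕ) (hm : (m : ℤ) = l * i + n) (k j : ℕ)
    (x : 𝒜 (j * i + m)) : fr hs n l m hm (k + j) (mulMap' hs m k j x) = fr hs n l m hm j x := by
  refine evT_ext fun z hz => ?_
  rw [fr, fr, evT_frac, evT_frac, Localization.mk_eq_mk_iff, Localization.r_iff_exists]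
  refine ⟨1, ?_⟩
  change 1 * (s ^ (j + l) * (s ^ k * x.1)) = 1 * (s ^ (k + j + l) * x.1)
  ring

theorem exists_fr {s : A} {i : ℕ} (hs : s ∈ 𝒜 i) (hi : 0 < i) (n : ℤ) (l m : ℕ) (hm : (m : ℤ) = l * i + n)
    (t : Γ(twist 𝒜 n, Proj.basicOpen 𝒜 s)) : ∃ k b, fr hs n l m hm k b = t := by
  obtain ⟨k, j, a, ha, hj, h⟩ := exists_fracT hs hi n rfl t
  refine ⟨k, ⟨s ^ l * a, ?_⟩, evT_ext fun z hz => ?_⟩
  · have : k * i + m = l • i + j := by
      rw [smul_eq_mul]
      zify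
      rw [hj, hm]
      ring
    rw [this]
    exact SetLike.mul_mem_graded (SetLike.pow_mem_graded l hs) ha
  · rw [h z hz (pow_notMem' hz _), fr, evT_frac, Localization.mk_eq_mk_iff, Localization.r_iff_exists]
    refine ⟨1, ?_⟩
    change 1 * (s ^ k * (s ^ l * a)) = 1 * (s ^ (k + l) * a)
    ring

theorem fr_eq_zero {s : A} {i : ℕ} (hs : s ∈ 𝒜 i) (hi : 0 < i) (n : ℤ) (l m : ℕ) (hm : (m : ℤ) = l * i + n) (k : ℕ)
    (b : 𝒜 (k * i + m)) (h : fr hs n l m hm k b = 0) : ∃ j, mulMap' hs m j k b = 0 := by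
  obtain ⟨N, hN⟩ := exists_pow_mul_eq_zero hs hi b.2 (fun x hx => by
    have h1 := congrArg (fun t => evT t x hx) h
    rw [fr, evT_frac, evT_zero] at h1
    rw [Localization.mk_eq_mk', IsLocalization.mk'_eq_iff_eq_mul, zero_mul] at h1
    exact h1)
  exact ⟨N, Subtype.ext hN⟩

theorem closure_algU {R' B : Type u} [CommRing R'] [Algebra R' R]
    [CommRing B] [Algebra R' B] {ℬ : ℕ → Submodule R' B} [GradedAlgebra ℬ]
    [Algebra R' A] [IsScalarTower R' R A] [Algebra B A] [IsScalarTower R' B A]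
    (φ : ℬ →+*ᵍ 𝒜) (hφA : ∀ b : B, φ b = algebraMap B A b) [h : Algebra.IsPushout R' R B A]
    {i : ℕ} {s : B} (hs : s ∈ ℬ i) (hi : 0 < i)
    (ψ : Γ(Proj ℬ, Proj.basicOpen ℬ s) →+* Γ(Proj 𝒜, Proj.basicOpen 𝒜 (φ s)))
    (hψ : ∀ z, ψ (Proj.awayToSection ℬ s z) = Proj.awayToSection 𝒜 (φ s) (Away.map φ s z)) :
    Subring.closure (Set.range (algU (𝒜 := 𝒜) (φ s)) ∪ Set.range ψ) = ⊤ := by
  have hs' : φ s ∈ 𝒜 i := Graded.map_mem φ hs
  rw [eq_top_iff]
  rintro t -
  obtain ⟨z, rfl⟩ := (ConcreteCategory.bijective_of_isIso (Proj.basicOpenIsoAway 𝒜 (φ s) hs' hi).hom).2 t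
  rw [Proj.basicOpenIsoAway_hom]
  obtain ⟨k, a, ha, rfl⟩ := Away.mk_surjective 𝒜 hs' z
  have key : ∀ a : 𝒜 (k • i), Proj.awayToSection 𝒜 (φ s) (Away.mk 𝒜 hs' k a.1 a.2) ∈
      Subring.closure (Set.range (algU (𝒜 := 𝒜) (φ s)) ∪ Set.range ψ) := by
    intro a
    induction a using (isBaseChange_pieceMap φ hφA (k • i)).inductionOn with
    | zero =>
      have : Away.mk 𝒜 hs' k (0 : 𝒜 (k • i)).1 (0 : 𝒜 (k • i)).2 = 0 := by
        apply HomogeneousLocalization.val_injective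
        rw [Away.val_mk, HomogeneousLocalization.val_zero]
        exact Localization.mk_zero _
      rw [this, map_zero]
      exact zero_mem _
    | tmul b =>
      refine Subring.subset_closure (Or.inr ⟨Proj.awayToSection ℬ s (Away.mk ℬ hs k b.1 b.2), ?_⟩)
      rw [hψ, Away.map_mk]
      rfl
    | smul r b hb =>
      have h1 : Away.mk 𝒜 hs' k (r • b).1 (r • b).2 = algR 𝒜 (φ s) r * Away.mk 𝒜 hs' k b.1 b.2 :=
        mk_smul_eq hs' b.1 b.2 r _
      rw [h1, map_mul]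
      exact mul_mem (Subring.subset_closure (Or.inl ⟨r, rfl⟩)) hb
    | add b c hb hc =>
      have h1 : Away.mk 𝒜 hs' k (b + c).1 (b + c).2 = Away.mk 𝒜 hs' k b.1 b.2 + Away.mk 𝒜 hs' k c.1 c.2 :=
        mk_add_eq hs' b.1 c.1 b.2 c.2
      rw [h1, map_add]
      exact add_mem hb hc
  exact key ⟨a, ha⟩

end frac

section main

open Twist Groth.Agent.Divis.ProjPic Groth.Agent.Sga67.TwistPull Groth.Agent.CohqA.PullbackQCoh
  Groth.Agent.CohqA.PullbackUniv

variable {R A R' B : Type u} [CommRing R'] [CommRing R] [Algebra R' R]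
    [CommRing B] [Algebra R' B] {ℬ : ℕ → Submodule R' B} [GradedAlgebra ℬ]
    [CommRing A] [Algebra R A] [Algebra R' A] [IsScalarTower R' R A] {𝒜 : ℕ → Submodule R A}
    [GradedAlgebra 𝒜]
    [Algebra B A] [IsScalarTower R' B A]
    (φ : ℬ →+*ᵍ 𝒜) (hφ : HomogeneousIdeal.irrelevant 𝒜 ≤ (HomogeneousIdeal.irrelevant ℬ).map φ)
    (hφA : ∀ b : B, φ b = algebraMap B A b)

theorem exists_mem_basicOpen (z : Proj ℬ) : ∃ (i : ℕ) (s : B), 0 < i ∧ s ∈ ℬ i ∧ z ∈ Proj.basicOpen ℬ s := by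
  obtain ⟨j, y, hy⟩ := (Proj.affineOpenCover ℬ).openCover.exists_eq z
  refine ⟨j.1, (j.2 : B), j.1.2, j.2.2, ?_⟩
  rw [← Proj.opensRange_awayι ℬ _ j.2.2 j.1.2]
  exact ⟨y, hy⟩

include hφA in
theorem isBC_toPush [h : Algebra.IsPushout R' R B A] (n : ℤ) {i : ℕ} {s : B} (hs : s ∈ ℬ i) (hi : 0 < i) :
    IsBC ((Proj.map φ hφ).appLE (Proj.basicOpen ℬ s) (Proj.basicOpen 𝒜 (φ s)) (by rfl)).hom
      (Groth.Agent.CohqA.PullbackAffine.secMap (Proj.map φ hφ) (toPush φ hφ n) (Proj.basicOpen ℬ s) (Proj.basicOpen 𝒜 (φ s)) (by rfl)).hom := by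
  obtain ⟨l, m, hm⟩ : ∃ l m : ℕ, (m : ℤ) = l * i + n := by
    refine ⟨n.natAbs, (n.natAbs * i + n).toNat, ?_⟩
    have : 0 ≤ (n.natAbs : ℤ) * i + n := by
      have h1 : (n.natAbs : ℤ) * 1 ≤ (n.natAbs : ℤ) * i := by
        apply mul_le_mul_of_nonneg_left <;> omega
      omega
    omega
  have hs' : φ s ∈ 𝒜 i := Graded.map_mem φ hs
  have hψ : ∀ z, ((Proj.map φ hφ).appLE (Proj.basicOpen ℬ s) (Proj.basicOpen 𝒜 (φ s)) (by rfl)).hom
      (Proj.awayToSection ℬ s z) = Proj.awayToSection 𝒜 (φ s) (Away.map φ s z) := by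
    intro z
    exact ConcreteCategory.congr_hom (Proj.awayToSection_comp_appLE φ hφ hs) z
  refine isBC_aux φ hφA s hs m (algU s) (algU (φ s)) _ (closure_algU φ hφA hs hi _ hψ) ?_ _ ?_
    (fr hs n l m hm) (fr_add hs n l m hm) (fr_smul hs n l m hm)
    (fr hs' n l m hm) (fr_add hs' n l m hm) (fr_smul hs' n l m hm) (fr_mul hs n l m hm) ?_
    (exists_fr hs hi n l m hm) (exists_fr hs' hi n l m hm) (fr_eq_zero hs' hi n l m hm)
  · intro r
    refine (hψ (algR ℬ s r)).trans ?_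
    rw [map_algR φ hφA]
    rfl
  · exact Groth.Agent.CohqA.PullbackAffine.secMap_smul _ _ _ _ _
  · intro k b
    refine evT_ext fun x hx => ?_
    have h1 : (φ s) ^ (k + l) ∉ x.asHomogeneousIdeal.toIdeal := Groth.Agent.Ega3B.TwistCoh.pow_notMem' (x := x) hx _
    have h2 : φ (s ^ (k + l)) ∉ x.asHomogeneousIdeal.toIdeal := by rwa [map_pow]
    refine (locMap_mk φ hφ x b.1 (s ^ (k + l))
      (Groth.Agent.Ega3B.TwistCoh.pow_notMem' (x := ProjectiveSpectrum.comap φ hφ x) hx _) h2).trans ?_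
    change Localization.mk (φ b.1) ⟨φ (s ^ (k + l)), h2⟩ = Localization.mk (φ b.1) ⟨(φ s) ^ (k + l), h1⟩
    congr 1
    exact Subtype.ext (map_pow φ _ _)

include hφA in
theorem isIso_cmp [h : Algebra.IsPushout R' R B A] (n : ℤ) : IsIso (cmp φ hφ n) := by
  have i1 : (twist ℬ n).IsQuasicoherent := Groth.Agent.Ega3B.TwistCoh.isQCoh_twist ℬ n
  have i2 : (twist 𝒜 n).IsQuasicoherent := Groth.Agent.Ega3B.TwistCoh.isQCoh_twist 𝒜 n
  refine (isUniv_iff_isIso _ _).mp (isUniv_of_isBC_cover _ _ fun y => ?_)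
  obtain ⟨i, s, hi, hs, hy⟩ := exists_mem_basicOpen ((Proj.map φ hφ) y)
  exact ⟨Proj.basicOpen ℬ s, Proj.basicOpen 𝒜 (φ s), Proj.isAffineOpen_basicOpen ℬ s hs hi,
    Proj.isAffineOpen_basicOpen 𝒜 _ (Graded.map_mem φ hs) hi, by rfl, hy, isBC_toPush φ hφ hφA n hs hi⟩

end main

end K31.TwistBC
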