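import Groth.Agent.Ega2.TwistBasic
import Groth.Agent.Ega4dA.ParaBig

/-!
# Generators of `O(n d)` over the union of the `D_+(f)`, `f` of degree `d`

* `powFrac f l n hn U hU` : the section `f ^ l` of `O(l d)`, `l` an integer, over an open where `f` does not vanish;
* `isInvertible_restrict_iSup`.
-/

set_option autoImplicit false
universe u
open CategoryTheory AlgebraicGeometry Limits TopologicalSpace Opposite TopCat
open Twist

namespace K31.TwistGen

open Groth.Agent.Ega2.TwistBasic Groth.Agent.Ega2.TensHom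

variable {R A : Type u} [CommRing R] [CommRing A] [Algebra R A] {𝒜 : ℕ → Submodule R A} [GradedAlgebra 𝒜]

/-- `f ^ l` as an element of degree `l d`. -/
def powE {d : ℕ} (f : 𝒜 d) (l : ℕ) : 𝒜 (l * d) :=
  ⟨f.1 ^ l, by simpa using SetLike.pow_mem_graded l f.2⟩

lemma powE_notMem {d : ℕ} {f : 𝒜 d} {x : ProjectiveSpectrum 𝒜} (hf : f.1 ∉ x.asHomogeneousIdeal) (l : ℕ) :
    (powE f l).1 ∉ x.asHomogeneousIdeal :=
  fun h => hf (x.isPrime.mem_of_pow_mem l h)

/-- The section `f ^ l` (`l` an integer) of `O(l d)` over an open where `f` does not vanish. -/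
noncomputable def powFrac {d : ℕ} (f : 𝒜 d) (l n : ℤ) (hn : l * d = n) (U : Opens (ProjectiveSpectrum.top 𝒜))
    (hU : ∀ x ∈ U, f.1 ∉ x.asHomogeneousIdeal) : sectN (𝒜 := 𝒜) n (op U) :=
  fracSec n (powE f l.toNat) (powE f (-l).toNat) (by
    push_cast
    rw [← hn, ← add_mul]
    congr 1
    omega) U (fun x hx => powE_notMem (hU x hx) _)

lemma isGen_powFrac {d : ℕ} (f : 𝒜 d) (l n : ℤ) (hn : l * d = n) (U : (Proj 𝒜).Opens)
    (hU : ∀ x ∈ U, f.1 ∉ x.asHomogeneousIdeal) : IsGen (twist 𝒜 n) U (powFrac f l n hn U hU) :=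
  isGen_fracSec n _ _ _ U _ (fun x hx => powE_notMem (hU x hx) _)

variable (𝒜) in
/-- `O(n d)` is invertible on the union of the `D_+(f)`, `f` of degree `d`. -/
theorem isInvertible_restrict_iSup (d : ℕ) (n : ℤ) :
    PicF.IsInvertible ((twist 𝒜 (n * d)).restrict (⨆ f : 𝒜 d, Proj.basicOpen 𝒜 (f : A)).ι) := by
  refine (Groth.Agent.Ega4dA.ParaBig.invOn_iff _ _).mp fun x hx => ?_
  obtain ⟨f, hf⟩ := Opens.mem_iSup.mp hx
  exact ⟨Proj.basicOpen 𝒜 (f : A), le_iSup (fun f : 𝒜 d => Proj.basicOpen 𝒜 (f : A)) f, hf,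
    powFrac f n (n * d) rfl _ (fun y hy => hy), isGen_powFrac f n (n * d) rfl _ _⟩

end K31.TwistGen
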